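import Mathlib

/-!
Sylow 2-subgroups in which every square lies in the derived subgroup: a criterion through generators.
-/

set_option autoImplicit false

namespace Cfsg.Agent.Lib.SylowTwoSq

/-- in every Sylow 2-subgroup every square lies in the derived subgroup -/
def SqGood (G : Type*) [Group G] : Prop :=
  ∀ (P : Sylow 2 G) (x : (P : Subgroup G)), x ^ 2 ∈ commutator (P : Subgroup G)

variable {G H : Type*} [Group G] [Group H]

theorem sq_mem_commutator_iff (P : Subgroup G) :
    (∀ x : P, x ^ 2 ∈ commutator P) ↔ ∀ x ∈ P, x ^ 2 ∈ ⁅P, P⁆ := by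
  constructor
  · intro h x hx
    have := Subgroup.mem_map_of_mem P.subtype (h ⟨x, hx⟩)
    rwa [Subgroup.map_subtype_commutator] at this
  · intro h x
    have h' : P.subtype (x ^ 2) ∈ (commutator P).map P.subtype := by
      rw [Subgroup.map_subtype_commutator]
      exact h x.1 x.2
    exact (Subgroup.mem_map_iff_mem P.subtype_injective).1 h'

theorem sq_mem_of_closure {S : Set G} (hsq : ∀ s ∈ S, s ^ 2 ∈ ⁅Subgroup.closure S, Subgroup.closure S⁆)
    {x : G} (hx : x ∈ Subgroup.closure S) : x ^ 2 ∈ ⁅Subgroup.closure S, Subgroup.closure S⁆ := by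
  set P := Subgroup.closure S with hP
  have key : ∀ y : P, (Abelianization.of y) ^ 2 = 1 ↔ ((y : G) ^ 2) ∈ ⁅P, P⁆ := fun y => by
    rw [← map_pow, show Abelianization.of (y ^ 2) = 1 ↔ y ^ 2 ∈ commutator P from
      QuotientGroup.eq_one_iff _, ← Subgroup.map_subtype_commutator P]
    exact (Subgroup.mem_map_iff_mem P.subtype_injective).symm
  suffices h : ∀ y : P, (Abelianization.of y) ^ 2 = 1 from (key ⟨x, hx⟩).1 (h _)
  rintro ⟨y, hy⟩
  induction hy using Subgroup.closure_induction with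
  | mem z hz => exact (key ⟨z, Subgroup.subset_closure hz⟩).2 (hsq z hz)
  | one => rw [show (⟨1, _⟩ : P) = 1 from rfl, map_one, one_pow]
  | mul a b ha hb iha ihb =>
    rw [show (⟨a * b, _⟩ : P) = ⟨a, ha⟩ * ⟨b, hb⟩ from rfl, map_mul, mul_pow, iha, ihb, one_mul]
  | inv a ha iha =>
    rw [show (⟨a⁻¹, _⟩ : P) = (⟨a, ha⟩ : P)⁻¹ from rfl, map_inv, inv_pow, iha, inv_one]

/-- A generated 2-subgroup of full 2-power order. -/
theorem sqGood_of_gen [Finite G] (S : Set G) (h2 : IsPGroup 2 (Subgroup.closure S))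
    (hidx : ¬ 2 ∣ (Subgroup.closure S).index)
    (hsq : ∀ s ∈ S, s ^ 2 ∈ ⁅Subgroup.closure S, Subgroup.closure S⁆) : SqGood G := by
  haveI : Fact (Nat.Prime 2) := ⟨Nat.prime_two⟩
  intro Q
  let P := h2.toSylow hidx
  intro x
  obtain ⟨g, hg⟩ := MulAction.exists_smul_eq G P Q
  have hmem := (sq_mem_commutator_iff (P : Subgroup G)).2 (fun y hy => sq_mem_of_closure hsq hy)
  let e : (P : Subgroup G) ≃* (Q : Subgroup G) := P.equiv Q
  obtain ⟨y, rfl⟩ := e.surjective x
  have := Subgroup.mem_map_of_mem e.toMonoidHom (hmem y)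
  rw [map_commutator_eq, MonoidHom.range_eq_top.2 e.surjective] at this
  rw [← map_pow]
  exact this

/-- The same with the index condition replaced by a bound on the order. -/
theorem sqGood_of_card [Finite G] (S : Set G) (h2 : IsPGroup 2 (Subgroup.closure S))
    (k o : ℕ) (ho : Odd o) (hdvd : Nat.card G ∣ 2 ^ k * o)
    (hcard : 2 ^ k ≤ Nat.card (Subgroup.closure S))
    (hsq : ∀ s ∈ S, s ^ 2 ∈ ⁅Subgroup.closure S, Subgroup.closure S⁆) : SqGood G := by
  haveI : Fact (Nat.Prime 2) := ⟨Nat.prime_two⟩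
  refine sqGood_of_gen S h2 ?_ hsq
  obtain ⟨j, hj⟩ := IsPGroup.iff_card.1 h2
  intro h
  have hjk : k ≤ j := (Nat.pow_le_pow_iff_right (by norm_num)).1 (hj ▸ hcard)
  have h1 : 2 ^ (k + 1) ∣ Nat.card G := by
    rw [← (Subgroup.closure S).card_mul_index, hj, pow_succ]
    exact Nat.mul_dvd_mul (pow_dvd_pow 2 hjk) h
  have h3 := h1.trans hdvd
  rw [pow_succ] at h3
  have := (Nat.dvd_of_mul_dvd_mul_left (by positivity) h3)
  exact Nat.not_even_iff_odd.2 ho (even_iff_two_dvd.2 this)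

theorem SqGood.of_surjective [Finite G] (h : SqGood G) (f : G →* H) (hf : Function.Surjective f) :
    SqGood H := by
  haveI : Fact (Nat.Prime 2) := ⟨Nat.prime_two⟩
  intro Q
  obtain ⟨P, rfl⟩ := Sylow.mapSurjective_surjective hf 2 Q
  rw [sq_mem_commutator_iff, Sylow.coe_mapSurjective, ← Subgroup.map_commutator]
  rintro _ ⟨x, hx, rfl⟩
  exact ⟨x ^ 2, (sq_mem_commutator_iff _).1 (h P) x hx, map_pow f x 2⟩

theorem SqGood.quotient [Finite G] (h : SqGood G) (N : Subgroup G) [N.Normal] : SqGood (G ⧸ N) :=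
  h.of_surjective (QuotientGroup.mk' N) (QuotientGroup.mk'_surjective N)

theorem SqGood.of_equiv [Finite G] (h : SqGood G) (e : G ≃* H) : SqGood H :=
  h.of_surjective e.toMonoidHom e.surjective

end Cfsg.Agent.Lib.SylowTwoSq
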