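import Cfsg.Agent.Lib.SylowTwoSq.Sub
import Cfsg.Agent.Lib.Chev.Steinberg
import Cfsg.Prelude.Def_LieChev

/-!
Squares in the Sylow 2-subgroups of the Chevalley groups of characteristic two.
-/

set_option autoImplicit false

namespace Cfsg.Agent.Lib.SylowTwoSq

open Cfsg.Lie Cfsg.Agent.Lib.Chev

variable {F : Type*} [Field F] [Fintype F] [CharP F 2] {D : ChevalleyDatum}

theorem sqGood_chev (hD : D ∈ [chevG2, chevB2, chevD4, chevF4, chevE6, chevE7, chevE8]) :
    SqGood ↥(D.group F) := by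
  obtain ⟨C, hh⟩ := exists_rooted hD
  haveI : Fact (Nat.Prime 2) := ⟨Nat.prime_two⟩
  obtain ⟨P, hP⟩ := hh.exists_sylow_posUnipotent (F := F) 2
  refine sqGood_of_sylow P _ hh.toChecked.posUnipotent_le_group hP fun x hx => ?_
  refine sq_mem_of_le rfl (fun s hs => ?_) hx
  obtain ⟨r, t, -, hs⟩ := hs
  have : s ^ 2 = 1 := Units.ext (by
    rw [Units.val_pow_eq_pow_val, hs, Units.val_one, pow_two]
    by_cases hr : r < D.nroots
    · rw [hh.toChecked.x_add hr, CharTwo.add_self_eq_zero, hh.toChecked.x_zero hr]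
    · rw [ChevalleyDatum.x, dif_neg hr, mul_one])
  rw [this]
  exact one_mem _

end Cfsg.Agent.Lib.SylowTwoSq
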