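import Cfsg.Agent.Lib.SylowTwoSq.Sub
import Cfsg.Agent.Lib.Twisted.Core.Group

/-!
Squares in the Sylow 2-subgroups of a twisted group in characteristic two: it is enough to look at
the root groups of the orbits.
-/

set_option autoImplicit false

namespace Cfsg.Agent.Lib.SylowTwoSq

open Cfsg.Lie Cfsg.Agent.Lib.Chev Cfsg.Agent.Lib.Twisted.Core

variable {D : ChevalleyDatum} {C : Cert} {F : Type*} [Field F] {T : Twist D C F} {ι : Type}

/-- the elements with square in the derived group -/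
def sqSet {A : Type*} [Group A] (K : Subgroup A) : Set A := {s | s ∈ K ∧ s ^ 2 ∈ ⁅K, K⁆}

theorem closure_sqSet_mono {A B : Type*} [Group A] [Group B] (f : A →* B) {K : Subgroup A} {L : Subgroup B}
    (h : K.map f ≤ L) {x : A} (hx : x ∈ Subgroup.closure (sqSet K)) :
    f x ∈ Subgroup.closure (sqSet L) := by
  refine (Subgroup.closure_le (K := (Subgroup.closure (sqSet L)).comap f)).2 ?_ hx
  rintro s ⟨hs, hs2⟩
  refine Subgroup.subset_closure ⟨h ⟨s, hs, rfl⟩, ?_⟩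
  rw [← map_pow]
  have := Subgroup.mem_map_of_mem f hs2
  rw [Subgroup.map_commutator] at this
  exact Subgroup.commutator_mono h h this

/-- It is enough that the root groups of the orbits are generated by elements of good square. -/
theorem orbit_closure [Fintype F] (S : OrbitSys T ι)
    (hgen : ∀ j, Twist.uGrp D F (S.wJ j) ⊓ T.fixedGroup ≤
      Subgroup.closure (sqSet (Twist.uGrp D F (S.wJ j) ⊓ T.fixedGroup)))
    {w : Equiv.Perm (Fin D.nroots)} (hw : T.FixW w) :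
    Twist.uGrp D F w ⊓ T.fixedGroup ≤ Subgroup.closure (sqSet (Twist.uGrp D F w ⊓ T.fixedGroup)) := by
  refine S.fixW_induction (P := fun w => Twist.uGrp D F w ⊓ T.fixedGroup ≤
    Subgroup.closure (sqSet (Twist.uGrp D F w ⊓ T.fixedGroup))) ?_ ?_ hw
  · rw [uGrp_one, bot_inf_eq]
    exact bot_le
  intro w j hw hd ih g hg
  obtain ⟨n, hnG, hn⟩ := S.exists_rep j
  have hnf := S.G_le hnG
  obtain ⟨⟨a, c⟩, e⟩ := (S.split_bijective hw hd).2 ⟨g, hg.1⟩
  have e1 : (a : GL D.Idx F) * c = g := congrArg Subtype.val e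
  have hc : (c : GL D.Idx F) ∈ D.group F := uGrp_le_group T.hh _ c.2
  have ha : (a : GL D.Idx F) ∈ D.group F := S.outGrp_le_group _ _ a.2
  have e2 := (S.split_bijective hw hd).1
    (a₁ := (⟨T.sig a, S.sig_outGrp hw a.2⟩, ⟨T.sig c, OrbitSys.sig_uGrp_fix (S.wJ_fixW j) c.2⟩)) (a₂ := (a, c))
    (Subtype.ext (by
      show T.sig (a : GL D.Idx F) * T.sig c = a * c
      rw [← T.sig_mul ha hc, e1, T.sig_fixed hg.2]))
  simp only [Prod.mk.injEq, Subtype.ext_iff] at e2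
  rw [← e1]
  refine mul_mem ?_ ?_
  · have haf : n * (a : GL D.Idx F) * n⁻¹ ∈ Twist.uGrp D F (w * S.wJ j) ⊓ T.fixedGroup :=
      ⟨S.conj_outGrp hn hw hd a.2, T.fixedGroup.mul_mem (T.fixedGroup.mul_mem hnf
        (T.mem_fixedGroup.2 ⟨ha, e2.1⟩)) (T.fixedGroup.inv_mem hnf)⟩
    have := closure_sqSet_mono (MulAut.conj n⁻¹).toMonoidHom (L := Twist.uGrp D F w ⊓ T.fixedGroup) ?_ (ih haf)
    · simpa [mul_assoc] using this
    rintro _ ⟨x, hx, rfl⟩
    have h1 := S.conj_uGrp (S.cls_inv hn) hw hd hx.1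
    refine ⟨S.outGrp_le (by simpa using h1), ?_⟩
    simpa using T.fixedGroup.mul_mem (T.fixedGroup.mul_mem (T.fixedGroup.inv_mem hnf) hx.2) hnf
  · have hle : Twist.uGrp D F (S.wJ j) ⊓ T.fixedGroup ≤ Twist.uGrp D F w ⊓ T.fixedGroup :=
      inf_le_inf_right _ (rootGen_mono (Set.image_mono (Finset.coe_subset.2 (S.invs_wJ_subset hw hd))))
    have := closure_sqSet_mono (MonoidHom.id _) (L := Twist.uGrp D F w ⊓ T.fixedGroup)
      (by rw [Subgroup.map_id]; exact hle) (hgen j ⟨c.2, T.mem_fixedGroup.2 ⟨hc, e2.2⟩⟩)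
    exact this

theorem odd_diag [Fintype F] [CharP F 2] (hh : Rooted D C) (K : Subgroup (GL D.Idx F)) :
    Odd (Nat.card ↥(D.diagonalSubgroup F ⊓ K)) := by
  rw [Nat.odd_iff, ← Nat.two_dvd_ne_zero]
  intro h2
  haveI : Fact (Nat.Prime 2) := ⟨Nat.prime_two⟩
  obtain ⟨x, hx⟩ := exists_prime_orderOf_dvd_card' 2 h2
  have hx' : orderOf (x : GL D.Idx F) = 2 := by rw [Subgroup.orderOf_coe, hx]
  obtain ⟨c, hc⟩ := hh.diagonalSubgroup_eq.le x.2.1
  have hd : orderOf (x : GL D.Idx F) ∣ Fintype.card F - 1 := by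
    refine orderOf_dvd_of_pow_eq_one ?_
    rw [← hc, ← map_pow, show c ^ (Fintype.card F - 1) = 1 from funext fun i => Units.ext (by
      simpa using FiniteField.pow_card_sub_one_eq_one (c i : F) (c i).ne_zero), map_one]
  obtain ⟨k, hk, hk'⟩ := FiniteField.card F 2
  rw [hx', hk'] at hd
  have h1 : 2 ∣ 2 ^ (k : ℕ) := dvd_pow_self 2 k.pos.ne'
  have h3 : 1 ≤ 2 ^ (k : ℕ) := Nat.one_le_two_pow
  omega

theorem sqGood_orbitSys [Fintype F] [CharP F 2] (S : OrbitSys T ι)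
    (hgen : ∀ j, Twist.uGrp D F (S.wJ j) ⊓ T.fixedGroup ≤
      Subgroup.closure (sqSet (Twist.uGrp D F (S.wJ j) ⊓ T.fixedGroup))) :
    SqGood ↥S.G := by
  classical
  haveI : Fact (Nat.Prime 2) := ⟨Nat.prime_two⟩
  obtain ⟨w₀, hw₀, e₀, -⟩ := exists_top_fixW T
  set U := D.posUnipotent F ⊓ S.G with hU
  have hgenU : U = Subgroup.closure (sqSet U) := by
    refine le_antisymm ?_ ((Subgroup.closure_le U).2 fun s hs => hs.1)
    rw [hU, S.eq_fixedGroup, ← e₀]
    exact orbit_closure S hgen hw₀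
  let W : Finset (Equiv.Perm (Fin D.nroots)) := Finset.univ.filter fun w => T.FixW w
  have hW : ∀ w, w ∈ W ↔ T.FixW w := fun w => by simp [W]
  obtain ⟨k, -, hk⟩ := FiniteField.card F 2
  have hq : ∀ (H : Subgroup (GL D.Idx F)) (n : ℕ), Nat.card ↥H ^ S.d = Nat.card F ^ n →
      ∃ i, Nat.card ↥H = 2 ^ i ∧ (n ≠ 0 → i ≠ 0) := by
    intro H n h
    rw [Nat.card_eq_fintype_card (α := F), hk, ← pow_mul] at h
    obtain ⟨i, -, hi⟩ := (Nat.dvd_prime_pow Nat.prime_two).1 (h ▸ dvd_pow_self (Nat.card ↥H) S.d_ne)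
    refine ⟨i, hi, fun hn he => ?_⟩
    subst he
    rw [hi, pow_zero, one_pow] at h
    exact (Nat.one_lt_two_pow (mul_ne_zero k.pos.ne' hn)).ne h
  obtain ⟨i₀, hi₀, -⟩ := hq U _ S.card_pos
  have hsum : Odd (∑ w ∈ W, Nat.card ↥(Twist.uGrp D F w ⊓ S.G)) := by
    have h1 : (1 : Equiv.Perm (Fin D.nroots)) ∈ W := (hW 1).2 ⟨one_mem _, by rw [one_mul, mul_one]⟩
    rw [← Finset.add_sum_erase _ _ h1, uGrp_one, bot_inf_eq, Subgroup.card_bot]
    refine odd_one.add_even (even_iff_two_dvd.2 (Finset.dvd_sum fun w hw => ?_))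
    have hwf := (hW w).1 (Finset.mem_of_mem_erase hw)
    have hne : (invs w).card ≠ 0 := fun h0 =>
      (Finset.ne_of_mem_erase hw) (T.hh.invs_eq_empty hwf.1 h0)
    obtain ⟨i, hi, hi'⟩ := hq _ _ (S.card_uGrp_G hwf)
    rw [hi]
    exact dvd_pow_self 2 (hi' hne)
  have hle : U ≤ S.G := inf_le_right
  set V := U.subgroupOf S.G
  have hVc : Nat.card ↥V = 2 ^ i₀ := by
    rw [Nat.card_congr (Subgroup.subgroupOfEquivOfLe hle).toEquiv, hi₀]
  have hV : IsPGroup 2 ↥V := IsPGroup.of_card hVc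
  have hidx : ¬ 2 ∣ V.index := by
    have hcard := S.card_group W hW
    rw [S.card_borel, ← hU, hi₀] at hcard
    have := V.card_mul_index
    rw [hVc, hcard, mul_assoc] at this
    rw [Nat.eq_of_mul_eq_mul_left (Nat.two_pow_pos i₀) this, ← even_iff_two_dvd,
      Nat.not_even_iff_odd, Nat.odd_mul]
    exact ⟨odd_diag T.hh S.G, hsum⟩
  refine sqGood_of_sylow (hV.toSylow hidx) U hle rfl fun x hx => ?_
  exact sq_mem_of_le hgenU (fun s hs => hs.2) hx

end Cfsg.Agent.Lib.SylowTwoSq
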