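import Cfsg.Agent.Lib.SylowTwoSq.Basic
import Cfsg.Agent.Lib.SylowTwoSq.Twisted
import Cfsg.Agent.Lib.Twisted.Ree.F4Sys

/-!
Squares and commutators in the root groups of the two classes of `²F₄`.
-/

set_option autoImplicit false

namespace Cfsg.Agent.Lib.SylowTwoSq

open Cfsg.Lie Cfsg.Agent.Lib.Chev Cfsg.Agent.Lib.Twisted Cfsg.Agent.Lib.Twisted.ReeF
open Cfsg.Agent.Lib.Twisted.Core
open scoped commutatorElement

variable {K : Type*} [Field K] [CharP K 2]

local notation "X" => xG (K := K) checked_F4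

theorem srtQ_mul (p q r s p' q' r' s' : K) :
    srtQ p q r s * srtQ p' q' r' s' = srtQ (p + p') (q + q') (r + r' + p' * q) (s + s' + p' * q ^ 2) := by
  have n1 : ∀ a b : K, Commute (X 28 a) (X 25 b) := fun a b =>
    commute_of_nil (by decide) (by decide) (by decide +kernel) (by decide) (by decide) a b
  have n2 : ∀ a b : K, Commute (X 30 a) (X 25 b) := fun a b =>
    commute_of_nil (by decide) (by decide) (by decide +kernel) (by decide) (by decide) a b
  have n3 : ∀ a b : K, Commute (X 30 a) (X 27 b) := fun a b =>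
    commute_of_nil (by decide) (by decide) (by decide +kernel) (by decide) (by decide) a b
  have n4 : ∀ a b : K, Commute (X 30 a) (X 28 b) := fun a b =>
    commute_of_nil (by decide) (by decide) (by decide +kernel) (by decide) (by decide) a b
  have h2 : (2 : K) = 0 := CharTwo.two_eq_zero
  have n5 : ∀ a b : K, Commute (X 28 a) (X 27 b) := fun a b => by
    rw [Commute, SemiconjBy]
    have h1 := xG_comm checked_F4 (r := 28) (s := 27) (by decide) (by decide)
      (T := [(30, -2, 1, 1)]) (by decide +kernel) (by decide) (by decide) a b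
    rw [h1]
    simp [wordG, h2, xG_zero checked_F4 (show 30 < chevF4.nroots by decide)]
  have e1 := reorderQ q p' 0 0
  simp only [zero_add, xG_zero checked_F4 (show 30 < chevF4.nroots by decide),
    xG_zero checked_F4 (show 28 < chevF4.nroots by decide), mul_one] at e1
  simp only [srtQ, wordG_cons, wordG_nil, mul_one] at e1 ⊢
  calc X 25 p * (X 27 q * (X 28 r * X 30 s)) * (X 25 p' * (X 27 q' * (X 28 r' * X 30 s')))
      = X 25 p * (X 27 q * ((X 28 r * X 30 s) * X 25 p') * (X 27 q' * (X 28 r' * X 30 s'))) := by group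
    _ = X 25 p * ((X 27 q * X 25 p') * (X 28 r * X 30 s) * (X 27 q' * (X 28 r' * X 30 s'))) := by
      rw [((n1 r p').mul_left (n2 s p')).eq]; group
    _ = X 25 p * X 25 p' * (X 27 q * ((X 28 (p' * q) * X 30 (p' * q ^ 2) * (X 28 r * X 30 s)) * X 27 q') *
        (X 28 r' * X 30 s')) := by rw [e1]; group
    _ = X 25 p * X 25 p' * ((X 27 q * X 27 q') *
        ((X 28 (p' * q) * (X 30 (p' * q ^ 2) * X 28 r) * X 30 s) * (X 28 r' * X 30 s'))) := by
      rw [(((n5 (p' * q) q').mul_left (n3 _ q')).mul_left ((n5 r q').mul_left (n3 s q'))).eq]; group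
    _ = X 25 p * X 25 p' * ((X 27 q * X 27 q') * ((X 28 (p' * q) * X 28 r) *
        ((X 30 (p' * q ^ 2) * X 30 s) * X 28 r') * X 30 s')) := by
      rw [(n4 (p' * q ^ 2) r).eq]; group
    _ = X 25 p * X 25 p' * ((X 27 q * X 27 q') * ((X 28 (p' * q) * X 28 r * X 28 r') *
        (X 30 (p' * q ^ 2) * X 30 s * X 30 s'))) := by
      rw [((n4 (p' * q ^ 2) r').mul_left (n4 s r')).eq]; group
    _ = _ := by
      rw [xG_add checked_F4 (by decide : 25 < chevF4.nroots), xG_add checked_F4 (by decide : 27 < chevF4.nroots),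
        xG_add checked_F4 (by decide : 28 < chevF4.nroots), xG_add checked_F4 (by decide : 28 < chevF4.nroots),
        xG_add checked_F4 (by decide : 30 < chevF4.nroots), xG_add checked_F4 (by decide : 30 < chevF4.nroots)]
      rw [show p' * q + r + r' = r + r' + p' * q by ring,
        show p' * q ^ 2 + s + s' = s + s' + p' * q ^ 2 by ring]

variable {e : ℕ}

theorem pairU_sq (t : K) : pairU e t ^ 2 = 1 := by
  have h : f4PairWord e f4p1 f4p4 t = [(33, t ^ e), (24, t)] := rfl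
  rw [pow_two, pairU, h]
  simp only [wordG_cons, wordG_nil, mul_one]
  calc X 33 (t ^ e) * X 24 t * (X 33 (t ^ e) * X 24 t)
      = X 33 (t ^ e) * (X 24 t * X 33 (t ^ e)) * X 24 t := by group
    _ = X 33 (t ^ e) * X 33 (t ^ e) * (X 24 t * X 24 t) := by
      rw [(commute_of_nil (r := 24) (s := 33) (by decide) (by decide) (by decide +kernel) (by decide) (by decide) t (t ^ e)).eq]
      group
    _ = 1 := by
      rw [xG_add checked_F4 (by decide : 33 < chevF4.nroots), xG_add checked_F4 (by decide : 24 < chevF4.nroots),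
        CharTwo.add_self_eq_zero, CharTwo.add_self_eq_zero, xG_zero checked_F4 (by decide : 33 < chevF4.nroots),
        xG_zero checked_F4 (by decide : 24 < chevF4.nroots), mul_one]

theorem pow_two_e {m : ℕ} (he : ∀ x : K, x ^ (2 * (2 ^ m * 2 ^ m)) = x) (t c : K) :
    (t * c ^ 2 ^ m) ^ (2 * 2 ^ m) = t ^ (2 * 2 ^ m) * c := by
  rw [mul_pow, ← pow_mul, show 2 ^ m * (2 * 2 ^ m) = 2 * (2 ^ m * 2 ^ m) by ring, he]

theorem classU_sq {m : ℕ} (he : ∀ x : K, x ^ (2 * (2 ^ m * 2 ^ m)) = x) (t u : K) :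
    classU (2 ^ m) t u ^ 2 = classU (2 ^ m) 0 (t * t ^ 2 ^ m) := by
  rw [pow_two, classU_eq, srtQ_mul, classU_eq]
  have h0 : (2 : ℕ) ^ m ≠ 0 := two_pow_ne m
  simp only [CharTwo.add_self_eq_zero, zero_add, zero_pow h0, zero_mul, add_zero, zero_pow two_ne_zero]
  congr 1
  rw [pow_two_e he]
  ring

theorem classU_comm {m : ℕ} (he : ∀ x : K, x ^ (2 * (2 ^ m * 2 ^ m)) = x) (t c : K) :
    ⁅classU (2 ^ m) t 0, classU (2 ^ m) c 0⁆ = classU (2 ^ m) 0 (t * c ^ 2 ^ m + c * t ^ 2 ^ m) := by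
  haveI : Fact (Nat.Prime 2) := ⟨Nat.prime_two⟩
  rw [commutatorElement_def, mul_inv_eq_iff_eq_mul, mul_inv_eq_iff_eq_mul, mul_assoc]
  have h0 : (2 : ℕ) ^ m ≠ 0 := two_pow_ne m
  have h1 : 2 * 2 ^ m ≠ 0 := by omega
  rw [classU_eq, classU_eq, classU_eq, srtQ_mul, srtQ_mul, srtQ_mul]
  simp only [zero_pow h0, zero_pow h1, zero_mul, mul_zero, zero_add, add_zero, zero_pow two_ne_zero]
  have hw : (t * c ^ 2 ^ m + c * t ^ 2 ^ m) ^ (2 * 2 ^ m) =
      t ^ (2 * 2 ^ m) * c + c ^ (2 * 2 ^ m) * t := by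
    rw [← pow_succ', add_pow_char_pow, pow_succ', pow_two_e he, pow_two_e he]
  rw [hw]
  have h2 : (2 : K) = 0 := CharTwo.two_eq_zero
  congr 1
  · rw [add_comm t c]
  · rw [add_comm]
  · linear_combination -(t * c ^ 2 ^ m) * h2
  · linear_combination -(t * c ^ (2 * 2 ^ m)) * h2

theorem exists_twist [Fintype K] {m : ℕ} (hm : 1 ≤ m) (hK : Fintype.card K = 2 ^ (2 * m + 1)) :
    ∃ v : K, v + v ^ 2 ^ m ≠ 0 := by
  by_contra h
  push Not at h
  have hv : ∀ v : K, v ^ 2 ^ m = v := fun v => (CharTwo.add_eq_zero.1 (h v)).symm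
  have h2 : ∀ v : K, v ^ 2 = v := fun v => by
    conv_rhs => rw [← pow_theta hK v]
    rw [mul_comm 2, pow_mul, pow_mul, hv, hv]
  classical
  have hle : (Finset.univ : Finset K) ⊆ {0, 1} := fun v _ => by
    have : v * (v - 1) = 0 := by linear_combination h2 v
    rcases mul_eq_zero.1 this with hz | hz
    · simp [hz]
    · simp [sub_eq_zero.1 hz]
  have hc := (Finset.card_le_card hle).trans Finset.card_le_two
  rw [Finset.card_univ, hK] at hc
  have : 2 ^ 2 ≤ 2 ^ (2 * m + 1) := Nat.pow_le_pow_right (by norm_num) (by omega)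
  omega

theorem classU_sq_mem [Fintype K] {m : ℕ} (hm : 1 ≤ m) (hK : Fintype.card K = 2 ^ (2 * m + 1))
    (U : Subgroup (GL chevF4.Idx K))
    (hU : ∀ t u : K, (classU (2 ^ m) t u : GL chevF4.Idx K) ∈ U) (t u : K) :
    (classU (2 ^ m) t u : GL chevF4.Idx K) ^ 2 ∈ ⁅U, U⁆ := by
  have he := pow_theta hK
  rw [← Subgroup.coe_pow, classU_sq he]
  have hinj : Function.Injective (fun a : K => a * a ^ 2 ^ m) := by
    intro a b hab
    have key : ∀ a : K, (a * a ^ 2 ^ m) ^ (2 * 2 ^ m) = a ^ (2 * 2 ^ m) * a := fun a => pow_two_e he a a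
    have hab' : a * a ^ 2 ^ m = b * b ^ 2 ^ m := hab
    have h1 := key a
    rw [hab', key b] at h1
    have h2 : (a * a ^ 2 ^ m) ^ 2 = (b * b ^ 2 ^ m) ^ 2 := by rw [hab']
    rw [mul_pow, mul_pow, ← pow_mul, ← pow_mul, mul_comm (2 ^ m) 2] at h2
    by_cases hb : b = 0
    · subst hb
      simpa [zero_pow (two_pow_ne m)] using hab'
    have h3 : b ^ (2 * 2 ^ m) * b * (a - b) = 0 := by linear_combination a * h1 + h2
    rcases mul_eq_zero.1 h3 with h6 | h6
    · exact absurd h6 (mul_ne_zero (pow_ne_zero _ hb) hb)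
    · exact sub_eq_zero.1 h6
  obtain ⟨v, hv⟩ := exists_twist hm hK
  obtain ⟨a, ha⟩ := (Finite.injective_iff_surjective.1 hinj) (t * t ^ 2 ^ m / (v + v ^ 2 ^ m))
  have e : t * t ^ 2 ^ m = a * (a * v) ^ 2 ^ m + a * v * a ^ 2 ^ m := by
    rw [eq_div_iff hv] at ha
    rw [← ha, mul_pow]
    ring
  rw [e, ← classU_comm he, ← Subgroup.subtype_apply, map_commutatorElement]
  exact Subgroup.commutator_mem_commutator (hU _ _) (hU _ _)

theorem sqGood_twistedF4 [Fintype K] {m : ℕ} (hm : 1 ≤ m) (hK : Fintype.card K = 2 ^ (2 * m + 1)) :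
    SqGood ↥(twistedF4 K (2 ^ m)) := by
  have he := pow_theta hK
  obtain ⟨σ, hσ⟩ := exists_sigma hK
  refine sqGood_orbitSys (orbitSys hσ he) fun j g hg => Subgroup.subset_closure ⟨hg, ?_⟩
  fin_cases j
  · have h1 : g ∈ rootGen chevF4 K setP := by rw [← uGrp_P]; exact hg.1
    obtain ⟨t, et⟩ := exists_pairU hσ (g := ⟨g, fixSub_le σ hg.2⟩) h1 (mem_fixSub.1 hg.2)
    rw [show g = (pairU (2 ^ m) t : GL chevF4.Idx K) from congrArg Subtype.val et, ← Subgroup.coe_pow,
      pairU_sq, Subgroup.coe_one]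
    exact one_mem _
  · have h1 : g ∈ rootGen chevF4 K setQ := by rw [← uGrp_Q]; exact hg.1
    obtain ⟨t, u, et⟩ := exists_classU hσ (g := ⟨g, fixSub_le σ hg.2⟩) h1 (mem_fixSub.1 hg.2)
    rw [show g = (classU (2 ^ m) t u : GL chevF4.Idx K) from congrArg Subtype.val et]
    refine classU_sq_mem hm hK _ (fun t u =>
      Subgroup.mem_inf.2 ⟨?_, mem_fixSub.2 (classU_fixed hσ he rfl t u)⟩) t u
    show _ ∈ Twist.uGrp chevF4 K (wperm checked_F4 LQ)
    rw [uGrp_Q]
    exact classU_mem_set _ t u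

end Cfsg.Agent.Lib.SylowTwoSq
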