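import Mathlib
import Cfsg.Agent.Lib.SylowTwoSq.Basic

/-!
Matrices that are unipotent and strictly triangular for a block order form 2-groups in characteristic two.
-/

set_option autoImplicit false

namespace Cfsg.Agent.Lib.SylowTwoSq

open Matrix

variable {ι : Type*} [Fintype ι] [DecidableEq ι] {F : Type*} [CommRing F]

/-- identity on and below the block diagonal -/
def IsBlockUni (b : ι → ℕ) (M : Matrix ι ι F) : Prop :=
  ∀ i j, b j ≤ b i → M i j = (1 : Matrix ι ι F) i j

omit [Fintype ι] in
theorem isBlockUni_one (b : ι → ℕ) : IsBlockUni b (1 : Matrix ι ι F) := fun _ _ _ => rfl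

theorem IsBlockUni.mul {b : ι → ℕ} {M N : Matrix ι ι F} (hM : IsBlockUni b M) (hN : IsBlockUni b N) :
    IsBlockUni b (M * N) := by
  intro i j hij
  rw [Matrix.mul_apply, Finset.sum_eq_single i]
  · rw [hM i i le_rfl, Matrix.one_apply_eq, one_mul, hN i j hij]
  · intro k _ hk
    rcases le_or_gt (b k) (b i) with h | h
    · rw [hM i k h, Matrix.one_apply_ne hk.symm, zero_mul]
    · rw [hN k j (hij.trans h.le), Matrix.one_apply_ne (by rintro rfl; omega), mul_zero]
  · simp

theorem IsBlockUni.pow_sub_one_apply {b : ι → ℕ} {M : Matrix ι ι F} (hM : IsBlockUni b M) :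
    ∀ (k : ℕ) (i j : ι), b j < b i + k → ((M - 1) ^ k) i j = 0
  | 0, i, j, h => by
    rw [pow_zero, Matrix.one_apply_ne]
    rintro rfl
    omega
  | k + 1, i, j, h => by
    rw [pow_succ, Matrix.mul_apply]
    refine Finset.sum_eq_zero fun l _ => ?_
    rcases lt_or_ge (b l) (b i + k) with h1 | h1
    · rw [hM.pow_sub_one_apply k i l h1, zero_mul]
    · rw [Matrix.sub_apply, hM l j (by omega), sub_self, mul_zero]

theorem IsBlockUni.exists_pow_eq_one [CharP F 2] {b : ι → ℕ} {M : Matrix ι ι F} (hM : IsBlockUni b M) :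
    ∃ k, M ^ 2 ^ k = 1 := by
  haveI : Fact (Nat.Prime 2) := ⟨Nat.prime_two⟩
  obtain ⟨k, hk⟩ : ∃ k, Finset.univ.sup b + 1 ≤ 2 ^ k :=
    ⟨Finset.univ.sup b + 1, Nat.lt_two_pow_self.le⟩
  refine ⟨k, ?_⟩
  cases isEmpty_or_nonempty ι with
  | inl h => exact Subsingleton.elim _ _
  | inr h =>
    have h0 : (M - 1) ^ 2 ^ k = 0 := by
      ext i j
      exact hM.pow_sub_one_apply _ i j (by
        have := Finset.le_sup (f := b) (Finset.mem_univ j)
        omega)
    rw [sub_pow_char_pow_of_commute _ _ (Commute.one_right M), one_pow, sub_eq_zero] at h0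
    exact h0

/-- A set mapped faithfully into block unipotent matrices generates a 2-group. -/
theorem isPGroup_closure {G : Type*} [Group G] [Finite G] [CharP F 2] (φ : G →* Matrix ι ι F)
    (hφ : Function.Injective φ) (b : ι → ℕ) (S : Set G) (hS : ∀ s ∈ S, IsBlockUni b (φ s)) :
    IsPGroup 2 (Subgroup.closure S) := by
  rintro ⟨x, hx⟩
  have : IsBlockUni b (φ x) := by
    rw [← Subgroup.mem_toSubmonoid, Subgroup.closure_toSubmonoid_of_finite] at hx
    induction hx using Submonoid.closure_induction with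
    | mem y hy => exact hS y hy
    | one => rw [map_one]; exact isBlockUni_one b
    | mul y z _ _ hy hz => rw [map_mul]; exact hy.mul hz
  obtain ⟨k, hk⟩ := this.exists_pow_eq_one
  exact ⟨k, Subtype.ext (hφ (by rw [SubgroupClass.coe_pow, map_pow, hk, Subgroup.coe_one, map_one]))⟩

end Cfsg.Agent.Lib.SylowTwoSq
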