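import Cfsg.Agent.Lib.SylowTwoSq.Twisted
import Cfsg.Agent.Lib.Twisted.Core.D4Group
import Cfsg.Agent.Lib.Twisted.Core.E6Group

/-!
Squares in the Sylow 2-subgroups of `³D₄` and `²E₆` in characteristic two.
-/

set_option autoImplicit false

namespace Cfsg.Agent.Lib.SylowTwoSq

open Cfsg.Lie Cfsg.Agent.Lib.Chev Cfsg.Agent.Lib.Twisted Cfsg.Agent.Lib.Twisted.Core

variable {D : ChevalleyDatum} {C : Cert} {F : Type*} [Field F]

theorem sqGood_orbits [Fintype F] [CharP F 2] {hh : Rooted D C} {P : GraphData} {hP : GraphData.Facts D P}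
    {hc : chkGraph D C P = true} {φ : F ≃+* F} {k : ℕ} (O : Orbits hh hP hc φ k) : SqGood ↥O.G := by
  refine sqGood_orbitSys O.system fun j g hg => ?_
  obtain ⟨t, -, e⟩ := O.uGrp_fixed j hg
  refine Subgroup.subset_closure ⟨hg, ?_⟩
  have h2 : g ^ 2 = 1 := by
    rw [e, pow_two, orbElt_add _ _ (O.facts j).2.2.2.2.2.1]
    refine (orbElt_congr _ _ fun i _ => ?_).trans (orbElt_zero _ _)
    exact CharTwo.add_self_eq_zero (t i)
  rw [h2]
  exact one_mem _

theorem sqGood_twistedD4 {K : Type*} [Field K] [Fintype K] [CharP K 2] {q : ℕ} (hq : IsPrimePow q)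
    (hK : Fintype.card K = q ^ 3) : SqGood ↥(twistedD4 K q) := by
  obtain ⟨φ, hφ, h3⟩ := d4_powAut hq hK
  exact sqGood_orbits (d4Orbits hq hK φ hφ h3)

theorem sqGood_twistedE6 {K : Type*} [Field K] [Fintype K] [CharP K 2] {q : ℕ} (hq : IsPrimePow q)
    (hK : Fintype.card K = q ^ 2) : SqGood ↥(twistedE6 K q) := by
  obtain ⟨φ, hφ, h2⟩ := e6_powAut hq hK
  exact sqGood_orbits (e6Orbits hq hK φ hφ h2)

end Cfsg.Agent.Lib.SylowTwoSq
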