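import Mathlib
import Cfsg.Prelude.Def_Classical
import Cfsg.Agent.Lib.SylowTwoSq.Basic
import Cfsg.Agent.Lib.SylowTwoSq.Flag
import Cfsg.Agent.Lib.PSLAut.Sylow
import Cfsg.Agent.Lib.PSpAut.Unipotent
import Cfsg.Agent.Lib.Classical.Symplectic

/-!
Squares in the Sylow 2-subgroups of the linear and symplectic groups of characteristic two.
-/

set_option autoImplicit false

namespace Cfsg.Agent.Lib.SylowTwoSq

open Matrix
open PSLAut (IsUnitri unitriGL)

variable {F : Type*} [Field F] {n : ℕ}

/-- transvection in `GL` -/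
def tGL (i j : Fin n) (h : i < j) (t : F) : GL (Fin n) F :=
  Matrix.SpecialLinearGroup.toGL (Matrix.SpecialLinearGroup.transvection h.ne t)

theorem coe_tGL (i j : Fin n) (h : i < j) (t : F) :
    (tGL i j h t : Matrix (Fin n) (Fin n) F) = Matrix.transvection i j t := by
  show (Matrix.SpecialLinearGroup.transvection h.ne t).1 = _
  rw [Matrix.SpecialLinearGroup.transvection_coe]
  rfl

theorem tGL_sq [CharP F 2] (i j : Fin n) (h : i < j) (t : F) : tGL i j h t ^ 2 = 1 := by
  refine Units.ext ?_
  rw [Units.val_pow_eq_pow_val, coe_tGL, Units.val_one, pow_two,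
    Matrix.transvection_mul_transvection_same _ _ h.ne, CharTwo.add_self_eq_zero,
    Matrix.transvection_zero]

variable [Fintype F]

theorem tGL_mem_unitri (i j : Fin n) (h : i < j) (t : F) : tGL i j h t ∈ unitriGL n F :=
  PSLAut.isUnitri_transvection h t

/-- The transvections generate the unitriangular group. -/
theorem unitri_le_closure :
    unitriGL n F ≤ Subgroup.closure {g | ∃ i j, ∃ h : i < j, ∃ t : F, g = tGL i j h t} := by
  classical
  intro g hg
  set T := Subgroup.closure {g | ∃ i j, ∃ h : i < j, ∃ t : F, g = tGL i j h t}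
  induction hk : (Finset.univ.filter fun p : Fin n × Fin n =>
      p.1 < p.2 ∧ (g : Matrix (Fin n) (Fin n) F) p.1 p.2 ≠ 0).card using Nat.strong_induction_on
      generalizing g with
  | _ k ih =>
    subst hk
    set N := Finset.univ.filter fun p : Fin n × Fin n =>
      p.1 < p.2 ∧ (g : Matrix (Fin n) (Fin n) F) p.1 p.2 ≠ 0 with hN
    rcases N.eq_empty_or_nonempty with he | he
    · have : g = 1 := Units.ext (by
        ext i j
        rcases lt_trichotomy i j with h | h | h
        · rw [Units.val_one, Matrix.one_apply_ne h.ne]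
          by_contra hne
          exact (Finset.eq_empty_iff_forall_notMem.1 he) (i, j) (by simp [hN, h, hne])
        · subst h; rw [Units.val_one, Matrix.one_apply_eq]; exact hg.1 i
        · rw [Units.val_one, Matrix.one_apply_ne h.ne']; exact hg.2 i j h)
      rw [this]; exact one_mem _
    · obtain ⟨⟨i, j⟩, hij, hmax⟩ := N.exists_max_image (fun p => p.1) he
      obtain ⟨hlt, hne⟩ : i < j ∧ (g : Matrix (Fin n) (Fin n) F) i j ≠ 0 := by simpa [hN] using hij
      have hrow : ∀ l, j < l → (g : Matrix (Fin n) (Fin n) F) j l = 0 := fun l hl => by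
        by_contra h
        exact absurd (hmax (j, l) (by simp [hN, hl, h])) (not_le.2 hlt)
      set t := (g : Matrix (Fin n) (Fin n) F) i j
      set g' := tGL i j hlt (-t) * g with hg'
      have hmem : g' ∈ unitriGL n F := mul_mem (tGL_mem_unitri _ _ _ _) hg
      have hentry : ∀ a b, (g' : Matrix (Fin n) (Fin n) F) a b =
          if a = i ∧ b = j then 0 else (g : Matrix (Fin n) (Fin n) F) a b := fun a b => by
        rw [hg', Units.val_mul, coe_tGL]
        by_cases ha : a = i
        · subst ha
          rw [Matrix.transvection_mul_apply_same]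
          by_cases hb : b = j
          · subst hb; simp [t, hg.1 b]
          · rw [if_neg (fun e => hb e.2)]
            rcases lt_or_gt_of_ne hb with h | h
            · rw [hg.2 j b h, mul_zero, add_zero]
            · rw [hrow b h, mul_zero, add_zero]
        · rw [Matrix.transvection_mul_apply_of_ne _ _ _ _ ha, if_neg (fun e => ha e.1)]
      have h1 : g' ∈ T := by
        refine ih _ (Finset.card_lt_card (Finset.ssubset_iff_of_subset ?_ |>.2 ⟨(i, j), hij, ?_⟩))
          hmem rfl
        · intro p hp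
          simp only [hN, Finset.mem_filter, Finset.mem_univ, true_and, hentry] at hp ⊢
          refine ⟨hp.1, fun h => hp.2 ?_⟩
          split_ifs <;> simp [h]
        · simp [hentry]
      have h2 : g = (tGL i j hlt (-t))⁻¹ * g' := by rw [hg', inv_mul_cancel_left]
      rw [h2]
      exact mul_mem (inv_mem (Subgroup.subset_closure ⟨i, j, hlt, -t, rfl⟩)) h1

omit [Fintype F] in
theorem upperCount_eq (n : ℕ) : PSLAut.upperCount n = n * (n - 1) / 2 := by
  rw [PSLAut.upperCount, Fin.sum_univ_eq_sum_range (fun i => i), Finset.sum_range_id]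

theorem sqGood_SL [CharP F 2] (n : ℕ) : SqGood (Matrix.SpecialLinearGroup (Fin n) F) := by
  haveI : Fact (Nat.Prime 2) := ⟨Nat.prime_two⟩
  classical
  set S : Set (Matrix.SpecialLinearGroup (Fin n) F) :=
    {g | ∃ i j, ∃ h : i < j, ∃ t : F, g = Matrix.SpecialLinearGroup.transvection h.ne t}
  have hmap : (Subgroup.closure S).map Matrix.SpecialLinearGroup.toGL = unitriGL n F := by
    rw [MonoidHom.map_closure]
    refine le_antisymm ((Subgroup.closure_le _).2 ?_) (unitri_le_closure.trans (Subgroup.closure_mono ?_))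
    · rintro _ ⟨_, ⟨i, j, h, t, rfl⟩, rfl⟩
      exact tGL_mem_unitri i j h t
    · rintro _ ⟨i, j, h, t, rfl⟩
      exact ⟨_, ⟨i, j, h, t, rfl⟩, rfl⟩
  obtain ⟨f, hp, hf⟩ := FiniteField.card F 2
  have hcard : Nat.card ↥(Subgroup.closure S) = 2 ^ ((f : ℕ) * PSLAut.upperCount n) := by
    rw [← Subgroup.card_map_of_injective (f := Matrix.SpecialLinearGroup.toGL)
      Matrix.SpecialLinearGroup.toGL_injective, hmap, PSLAut.card_unitriGL, hf, ← pow_mul]
  refine sqGood_of_gen S (IsPGroup.of_card hcard) ?_ ?_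
  · intro hd
    refine PSLAut.not_dvd_index_unitriGL (n := n) (F := F) (p := 2) ?_
    rw [← hmap, Subgroup.index_map_of_injective _ Matrix.SpecialLinearGroup.toGL_injective]
    exact hd.mul_right _
  · rintro _ ⟨i, j, h, t, rfl⟩
    have h2 : Matrix.SpecialLinearGroup.transvection h.ne t ^ 2 = 1 :=
      Matrix.SpecialLinearGroup.toGL_injective (by rw [map_pow, map_one]; exact tGL_sq i j h t)
    rw [h2]
    exact one_mem _

theorem sqGood_Sp [CharP F 2] (m : ℕ) : SqGood (Matrix.symplecticGroup (Fin m) F) := by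
  classical
  set S : Set (Matrix.symplecticGroup (Fin m) F) :=
    {g | (∃ i j, ∃ h : i < j, ∃ t : F, g = PSpAut.lev (tGL i j h t)) ∨
      ∃ (X : Matrix (Fin m) (Fin m) F) (hX : Xᵀ = X), g = PSpAut.sx X hX}
  have hlev : ∀ P : GL (Fin m) F, P ∈ unitriGL m F → PSpAut.lev P ∈ Subgroup.closure S := by
    let L : GL (Fin m) F →* Matrix.symplecticGroup (Fin m) F := MonoidHom.mk' PSpAut.lev fun P Q =>
      Subtype.ext (by
        rw [Submonoid.coe_mul, PSpAut.coe_lev, PSpAut.coe_lev, PSpAut.coe_lev, Matrix.fromBlocks_multiply,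
          _root_.mul_inv_rev, Units.val_mul, Units.val_mul, Matrix.transpose_mul]
        simp)
    intro P hP
    have h1 := Subgroup.mem_map_of_mem L (unitri_le_closure hP)
    rw [MonoidHom.map_closure] at h1
    refine Subgroup.closure_mono ?_ h1
    rintro _ ⟨_, ⟨i, j, h, t, rfl⟩, rfl⟩
    exact Or.inl ⟨i, j, h, t, rfl⟩
  let b : Fin m ⊕ Fin m → ℕ := Sum.elim (fun i => i.val) (fun i => 2 * m - i.val)
  obtain ⟨f, -, hf⟩ := FiniteField.card F 2
  refine sqGood_of_card S ?_ ((f : ℕ) * m ^ 2)
    (∏ i ∈ Finset.range m, (Fintype.card F ^ (2 * (i + 1)) - 1)) ?_ ?_ ?_ ?_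
  · refine isPGroup_closure (Matrix.symplecticGroup (Fin m) F).subtype Subtype.coe_injective b S ?_
    have hu : ∀ P : GL (Fin m) F, P ∈ unitriGL m F → IsBlockUni b
        (PSpAut.lev P : Matrix (Fin m ⊕ Fin m) (Fin m ⊕ Fin m) F) := by
      intro P hP
      have hPi : P⁻¹ ∈ unitriGL m F := inv_mem hP
      rintro (i | i) (j | j) h <;> simp only [b, Sum.elim_inl, Sum.elim_inr] at h <;> rw [PSpAut.coe_lev]
      · rw [Matrix.fromBlocks_apply₁₁]
        rcases eq_or_lt_of_le h with e | e
        · obtain rfl : j = i := Fin.ext e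
          rw [hP.1, Matrix.one_apply_eq]
        · rw [hP.2 i j e, Matrix.one_apply_ne (by simp; exact fun e' => absurd e' (Fin.ne_of_gt e))]
      · simp
      · simp
      · rw [Matrix.fromBlocks_apply₂₂, Matrix.transpose_apply]
        have hle : i ≤ j := by rw [Fin.le_def]; omega
        rcases eq_or_lt_of_le hle with e | e
        · subst e; rw [hPi.1, Matrix.one_apply_eq]
        · rw [hPi.2 j i e, Matrix.one_apply_ne (by simp; exact Fin.ne_of_lt e)]
    rintro _ (⟨i, j, h, t, rfl⟩ | ⟨X, hX, rfl⟩)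
    · exact hu _ (tGL_mem_unitri i j h t)
    · rintro (i | i) (j | j) h <;> simp only [b, Sum.elim_inl, Sum.elim_inr] at h <;>
        show (PSpAut.sx X hX : Matrix (Fin m ⊕ Fin m) (Fin m ⊕ Fin m) F) _ _ = _ <;> rw [PSpAut.coe_sx]
      · simp [Matrix.one_apply]
      · omega
      · simp
      · simp [Matrix.one_apply]
  · refine Finset.prod_induction _ Odd (fun a b => Odd.mul) odd_one fun i _ => ?_
    rw [hf, ← pow_mul]
    refine Nat.Even.sub_odd (Nat.one_le_two_pow) ((Nat.even_pow' ?_).2 even_two) odd_one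
    have := f.pos
    positivity
  · rw [Classical.natCard_symplecticGroup, Nat.card_eq_fintype_card, hf, ← pow_mul]
  · let A : Type _ := {p : Fin m × Fin m // p.1 ≤ p.2} → F
    let X : A → Matrix (Fin m) (Fin m) F := fun a i j =>
      if h : i ≤ j then a ⟨(i, j), h⟩ else a ⟨(j, i), le_of_not_ge h⟩
    have hX : ∀ a, (X a)ᵀ = X a := fun a => by
      ext i j
      rcases lt_trichotomy i j with h | h | h
      · simp [X, Matrix.transpose, h.le, not_le.2 h]
      · subst h; rfl
      · simp [X, Matrix.transpose, h.le, not_le.2 h]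
    let φ : ↥(unitriGL m F) × A → ↥(Subgroup.closure S) := fun p =>
      ⟨PSpAut.lev p.1.1 * PSpAut.sx (X p.2) (hX _), mul_mem (hlev _ p.1.2)
        (Subgroup.subset_closure (Or.inr ⟨_, _, rfl⟩))⟩
    have hφ : Function.Injective φ := by
      rintro ⟨⟨P, hP⟩, a⟩ ⟨⟨Q, hQ⟩, c⟩ h
      have h1 := congrArg (fun g : ↥(Subgroup.closure S) =>
        (g.1 : Matrix (Fin m ⊕ Fin m) (Fin m ⊕ Fin m) F)) h
      simp only [φ, Submonoid.coe_mul, PSpAut.coe_lev, PSpAut.coe_sx, Matrix.fromBlocks_multiply,
        Matrix.mul_one, Matrix.mul_zero, add_zero] at h1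
      obtain ⟨e1, e2, -, -⟩ := Matrix.fromBlocks_inj.1 h1
      obtain rfl : P = Q := Units.ext e1
      have e3 : X a = X c := P.isUnit.mul_right_injective e2
      refine Prod.ext rfl (funext fun p => ?_)
      have := congrFun (congrFun e3 p.1.1) p.1.2
      simpa [X, dif_pos p.2] using this
    refine le_trans (le_of_eq ?_) (Nat.card_le_card_of_injective φ hφ)
    have hcount : Fintype.card {p : Fin m × Fin m // p.1 ≤ p.2} = m * (m + 1) / 2 := by
      rw [Fintype.card_congr (β := Σ j : Fin m, Fin (j.val + 1))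
        { toFun := fun p => ⟨p.1.2, ⟨p.1.1.val, Nat.lt_succ_of_le p.2⟩⟩
          invFun := fun s => ⟨(⟨s.2.val, lt_of_lt_of_le s.2.isLt s.1.isLt⟩, s.1), Nat.le_of_lt_succ s.2.isLt⟩
          left_inv := fun p => rfl
          right_inv := fun s => rfl }, Fintype.card_sigma]
      simp only [Fintype.card_fin]
      rw [Fin.sum_univ_eq_sum_range (fun i => i + 1), Finset.sum_add_distrib, Finset.sum_const,
        Finset.sum_range_id, Finset.card_range, smul_eq_mul, mul_one]
      rcases m with _ | m
      · rfl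
      · rw [Nat.add_sub_cancel, show (m + 1) * (m + 1 + 1) = (m + 1) * m + 2 * (m + 1) by ring,
          Nat.add_mul_div_left _ _ (by norm_num : 0 < 2)]
    rw [Nat.card_prod, PSLAut.card_unitriGL, upperCount_eq, Nat.card_fun, Nat.card_eq_fintype_card,
      Nat.card_eq_fintype_card, hcount, ← pow_add, hf, ← pow_mul]
    congr 2
    rcases m with _ | m
    · rfl
    · have e1 : 2 ∣ (m + 1) * m := by rw [mul_comm]; exact (Nat.even_mul_succ_self m).two_dvd
      have e2 : (m + 1) * (m + 1 + 1) = (m + 1) * m + 2 * (m + 1) := by ring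
      rw [Nat.add_sub_cancel, e2, Nat.add_mul_div_left _ _ (by norm_num : 0 < 2), pow_two]
      obtain ⟨c, hc⟩ := e1
      rw [hc, Nat.mul_div_cancel_left _ (by norm_num : 0 < 2)]
      nlinarith
  · rintro _ (⟨i, j, h, t, rfl⟩ | ⟨X, hX, rfl⟩)
    · have h2 : PSpAut.lev (tGL i j h t) ^ 2 = 1 := by
        refine Subtype.ext ?_
        have hs := congrArg Units.val (tGL_sq i j h t)
        have hi : (tGL i j h t)⁻¹ = tGL i j h t :=
          inv_eq_of_mul_eq_one_right (by rw [← pow_two]; exact tGL_sq i j h t)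
        simp only [pow_two, Units.val_mul, Units.val_one] at hs
        rw [pow_two, Submonoid.coe_mul, PSpAut.coe_lev, hi, Matrix.fromBlocks_multiply]
        simp [hs, ← Matrix.transpose_mul]
      rw [h2]; exact one_mem _
    · have h2 : PSpAut.sx X hX ^ 2 = 1 := by
        refine Subtype.ext ?_
        rw [pow_two, Submonoid.coe_mul, PSpAut.coe_sx, Matrix.fromBlocks_multiply]
        have : X + X = 0 := by ext i j; exact CharTwo.add_self_eq_zero _
        simp [this]
      rw [h2]; exact one_mem _

end Cfsg.Agent.Lib.SylowTwoSq
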