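import Mathlib
import Cfsg.Agent.Lib.SylowTwoSq.Linear
import Cfsg.Agent.Lib.RankThreeTwo.Orthogonal
import Cfsg.Agent.Lib.Forms.Parity
import Cfsg.Agent.Lib.Classical.EichlerStandard
import Cfsg.Agent.S0264
import Cfsg.Agent.S0287
import Cfsg.Agent.S0288

/-!
Squares in the Sylow 2-subgroups of the even-dimensional orthogonal groups of characteristic two.
-/

set_option autoImplicit false

namespace Cfsg.Agent.Lib.SylowTwoSq

open Matrix
open scoped commutatorElement
open PSLAut (IsUnitri unitriGL)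
open RankThreeTwo (Pres isoElt isoElt_ext sym2 upElt upElt_mem alt_sym2 pres_upper add_self_matrix)

variable {F : Type*} [Field F] [CharP F 2] {m : ℕ}

theorem self_add {V : Type*} [AddCommGroup V] [Module F V] (v : V) : v + v = 0 := by
  rw [← two_smul F v, CharTwo.two_eq_zero, zero_smul]

/-- the Levi isometries of the plus form -/
def levHom (m : ℕ) (F : Type*) [Field F] :
    GL (Fin m) F →* Cfsg.isometryGroup F (Cfsg.quadFormPlus m F) where
  toFun g := ⟨⟨Matrix.fromBlocks (g : Matrix (Fin m) (Fin m) F) 0 0 (((g⁻¹ : GL (Fin m) F) : Matrix (Fin m) (Fin m) F))ᵀ,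
      Matrix.fromBlocks ((g⁻¹ : GL (Fin m) F) : Matrix (Fin m) (Fin m) F) 0 0 ((g : Matrix (Fin m) (Fin m) F))ᵀ,
      by rw [Matrix.fromBlocks_multiply]; simp [← Matrix.transpose_mul],
      by rw [Matrix.fromBlocks_multiply]; simp [← Matrix.transpose_mul]⟩, fun u _ => by
    show Cfsg.quadFormPlus m F (Matrix.fromBlocks _ 0 0 _ *ᵥ u) = Cfsg.quadFormPlus m F u
    simp only [RankThreeTwo.quadPlus_eq, Matrix.fromBlocks_mulVec, Sum.elim_comp_inl, Sum.elim_comp_inr]
    simp [Matrix.dotProduct_mulVec, Matrix.vecMul_transpose, Matrix.mulVec_mulVec]⟩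
  map_one' := Subtype.ext (Units.ext (by simp))
  map_mul' g h := Subtype.ext (Units.ext (by
    show Matrix.fromBlocks _ 0 0 _ = Matrix.fromBlocks _ 0 0 _ * Matrix.fromBlocks _ 0 0 _
    rw [Matrix.fromBlocks_multiply, _root_.mul_inv_rev, Units.val_mul, Units.val_mul, Matrix.transpose_mul]
    simp))

/-- positions in a flag compatible with the plus form -/
def bPlus (m : ℕ) : Fin m ⊕ Fin m → ℕ := Sum.elim (fun i => i.val) (fun i => 2 * m + 1 - i.val)

/-- positions in a flag compatible with the minus form -/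
def bMinus (m : ℕ) : (Fin m ⊕ Fin m) ⊕ Fin 2 → ℕ := Sum.elim (bPlus m) (fun _ => m)

/-- alternating matrices with given entries above the diagonal -/
def altMat (a : {p : Fin m × Fin m // p.1 < p.2} → F) : Matrix (Fin m) (Fin m) F :=
  ∑ p, a p • sym2 p.1.1 p.1.2

omit [CharP F 2] in
theorem altMat_apply (a : {p : Fin m × Fin m // p.1 < p.2} → F) {i j : Fin m} (h : i < j) :
    altMat a i j = a ⟨(i, j), h⟩ := by
  classical
  rw [altMat, Matrix.sum_apply, Finset.sum_eq_single ⟨(i, j), h⟩]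
  · simp [sym2, Matrix.single_apply, h.ne, h.ne']
  · rintro ⟨⟨k, l⟩, hkl⟩ - hne
    have h1 : ¬ (k = i ∧ l = j) := fun e => hne (by obtain ⟨rfl, rfl⟩ := e; rfl)
    have h2 : ¬ (l = i ∧ k = j) := fun e => absurd (e.1 ▸ e.2 ▸ hkl : j < i) (not_lt.2 h.le)
    simp [sym2, Matrix.single_apply, h1, h2]
  · simp

theorem altMat_alt (a : {p : Fin m × Fin m // p.1 < p.2} → F) (y : Fin m → F) :
    (altMat a *ᵥ y) ⬝ᵥ y = 0 := by
  rw [altMat, Matrix.sum_mulVec, sum_dotProduct]
  exact Finset.sum_eq_zero fun p _ => alt_sym2 _ _ _ _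

theorem upElt_add (A B : Matrix (Fin m) (Fin m) F) (hA : ∀ y, (A *ᵥ y) ⬝ᵥ y = 0)
    (hB : ∀ y, (B *ᵥ y) ⬝ᵥ y = 0) (hAB : ∀ y, ((A + B) *ᵥ y) ⬝ᵥ y = 0) :
    upElt (A + B) hAB = upElt A hA * upElt B hB := by
  apply isoElt_ext
  show Matrix.fromBlocks 1 (A + B) 0 1 = Matrix.fromBlocks 1 A 0 1 * Matrix.fromBlocks 1 B 0 1
  rw [Matrix.fromBlocks_multiply]
  simp [add_comm]

/-- generators of a Sylow subgroup of `Ω⁺` -/
def genPlus (m : ℕ) (F : Type*) [Field F] [CharP F 2] :
    Set (Cfsg.isometryGroup F (Cfsg.quadFormPlus m F)) :=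
  {g | (∃ i j, ∃ h : i < j, ∃ t : F, g = levHom m F (tGL i j h t)) ∨
    ∃ (i j : Fin m) (_ : i < j) (t : F), g = upElt (t • sym2 i j) (alt_sym2 i j t)}

theorem exists_third (hm : 3 ≤ m) (i j : Fin m) : ∃ k, i ≠ k ∧ j ≠ k := by
  classical
  have : ({i, j} : Finset (Fin m)).card < (Finset.univ : Finset (Fin m)).card :=
    lt_of_le_of_lt Finset.card_le_two (by simp; omega)
  obtain ⟨k, -, hk⟩ := Finset.exists_mem_notMem_of_card_lt_card this
  simp only [Finset.mem_insert, Finset.mem_singleton, not_or] at hk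
  exact ⟨k, Ne.symm hk.1, Ne.symm hk.2⟩

theorem genPlus_subset_omega (hm : 3 ≤ m) :
    genPlus m F ⊆ (Cfsg.Omega F (Cfsg.quadFormPlus m F) : Set _) := by
  rintro g (⟨i, j, h, t, rfl⟩ | ⟨i, j, h, t, rfl⟩)
  · have h1 : tGL i j h t ∈ commutator (GL (Fin m) F) := by
      rw [S0264.result m (fun e => by omega), MonoidHom.mem_ker]
      refine Units.ext ?_
      show (tGL i j h t : Matrix (Fin m) (Fin m) F).det = 1
      rw [coe_tGL, Matrix.det_transvection_of_ne _ _ h.ne]
    have h2 := Subgroup.mem_map_of_mem (levHom m F) h1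
    rw [map_commutator_eq] at h2
    exact Subgroup.commutator_mono le_top le_top h2
  · obtain ⟨k, h1, h2⟩ := exists_third hm i j
    exact upElt_mem h.ne h1 h2 t

theorem levHom_mem_closure [Fintype F] {g : GL (Fin m) F} (hg : g ∈ unitriGL m F) :
    levHom m F g ∈ Subgroup.closure (genPlus m F) := by
  have h1 := Subgroup.mem_map_of_mem (levHom m F) (unitri_le_closure hg)
  rw [MonoidHom.map_closure] at h1
  refine Subgroup.closure_mono ?_ h1
  rintro _ ⟨_, ⟨i, j, h, t, rfl⟩, rfl⟩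
  exact Or.inl ⟨i, j, h, t, rfl⟩

theorem upElt_mem_closure (a : {p : Fin m × Fin m // p.1 < p.2} → F) :
    upElt (altMat a) (altMat_alt a) ∈ Subgroup.closure (genPlus m F) := by
  classical
  suffices h : ∀ s : Finset {p : Fin m × Fin m // p.1 < p.2},
      ∃ hA : ∀ y, ((∑ p ∈ s, a p • sym2 p.1.1 p.1.2) *ᵥ y) ⬝ᵥ y = 0,
        upElt (∑ p ∈ s, a p • sym2 p.1.1 p.1.2) hA ∈ Subgroup.closure (genPlus m F) by
    obtain ⟨_, h'⟩ := h Finset.univ
    exact h'
  intro s
  induction s using Finset.induction_on with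
  | empty =>
    refine ⟨by simp, ?_⟩
    have : upElt (∑ p ∈ (∅ : Finset {p : Fin m × Fin m // p.1 < p.2}), a p • sym2 p.1.1 p.1.2)
        (by simp) = (1 : Cfsg.isometryGroup F (Cfsg.quadFormPlus m F)) := isoElt_ext (by
      show Matrix.fromBlocks 1 _ 0 1 = (1 : Matrix _ _ F)
      simp)
    rw [this]; exact one_mem _
  | insert p s hp ih =>
    obtain ⟨hA, hmem⟩ := ih
    have hB := alt_sym2 p.1.1 p.1.2 (a p)
    simp only [Finset.sum_insert hp]
    have hAB : ∀ y : Fin m → F, ((a p • sym2 p.1.1 p.1.2 + ∑ x ∈ s, a x • sym2 x.1.1 x.1.2) *ᵥ y) ⬝ᵥ y = 0 := fun y => by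
      rw [Matrix.add_mulVec, add_dotProduct, hA y, hB y, add_zero]
    refine ⟨hAB, ?_⟩
    rw [upElt_add _ _ hB hA]
    exact mul_mem (Subgroup.subset_closure (Or.inr ⟨_, _, p.2, _, rfl⟩)) hmem

/-- the elements `levi * upper` -/
def plusElt [Fintype F] (p : ↥(unitriGL m F) × ({p : Fin m × Fin m // p.1 < p.2} → F)) :
    Cfsg.isometryGroup F (Cfsg.quadFormPlus m F) := levHom m F p.1.1 * upElt (altMat p.2) (altMat_alt p.2)

theorem plusElt_injective [Fintype F] : Function.Injective (plusElt (F := F) (m := m)) := by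
  rintro ⟨⟨P, hP⟩, a⟩ ⟨⟨Q, hQ⟩, c⟩ h
  have h1 : Matrix.fromBlocks (P : Matrix (Fin m) (Fin m) F) 0 0 _ * Matrix.fromBlocks 1 (altMat a) 0 1 =
      Matrix.fromBlocks (Q : Matrix (Fin m) (Fin m) F) 0 0 _ * Matrix.fromBlocks 1 (altMat c) 0 1 :=
    congrArg (fun g : Cfsg.isometryGroup F (Cfsg.quadFormPlus m F) =>
      (g.1 : Matrix (Fin m ⊕ Fin m) (Fin m ⊕ Fin m) F)) h
  simp only [Matrix.fromBlocks_multiply, Matrix.mul_one, Matrix.mul_zero, add_zero] at h1
  obtain ⟨e1, e2, -, -⟩ := Matrix.fromBlocks_inj.1 h1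
  obtain rfl : P = Q := Units.ext e1
  have e3 : altMat a = altMat c := P.isUnit.mul_right_injective e2
  refine Prod.ext rfl (funext fun p => ?_)
  show a p = c p
  rw [← altMat_apply a p.2, ← altMat_apply c p.2, e3]

theorem isBlockUni_genPlus [Fintype F] {g : Cfsg.isometryGroup F (Cfsg.quadFormPlus m F)}
    (hg : g ∈ genPlus m F) :
    IsBlockUni (bPlus m) (g.1 : Matrix (Fin m ⊕ Fin m) (Fin m ⊕ Fin m) F) := by
  rcases hg with ⟨i, j, h, t, rfl⟩ | ⟨i, j, -, t, rfl⟩
  · have hP := tGL_mem_unitri i j h t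
    have hPi : (tGL i j h t)⁻¹ ∈ unitriGL m F := inv_mem hP
    rintro (i' | i') (j' | j') h' <;> simp only [bPlus, Sum.elim_inl, Sum.elim_inr] at h' <;>
      show Matrix.fromBlocks _ 0 0 _ _ _ = _
    · rw [Matrix.fromBlocks_apply₁₁]
      rcases eq_or_lt_of_le h' with e | e
      · obtain rfl : j' = i' := Fin.ext e
        rw [hP.1, Matrix.one_apply_eq]
      · rw [hP.2 i' j' e, Matrix.one_apply_ne (by simp; exact Fin.ne_of_gt e)]
    · simp
    · simp
    · rw [Matrix.fromBlocks_apply₂₂, Matrix.transpose_apply]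
      have hle : i' ≤ j' := by rw [Fin.le_def]; omega
      rcases eq_or_lt_of_le hle with e | e
      · subst e; rw [hPi.1, Matrix.one_apply_eq]
      · rw [hPi.2 j' i' e, Matrix.one_apply_ne (by simp; exact Fin.ne_of_lt e)]
  · rintro (i' | i') (j' | j') h' <;> simp only [bPlus, Sum.elim_inl, Sum.elim_inr] at h' <;>
      show Matrix.fromBlocks 1 _ 0 1 _ _ = _
    · simp [Matrix.one_apply]
    · omega
    · simp
    · simp [Matrix.one_apply]

theorem sq_genPlus {g : Cfsg.isometryGroup F (Cfsg.quadFormPlus m F)} (hg : g ∈ genPlus m F) : g ^ 2 = 1 := by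
  rcases hg with ⟨i, j, h, t, rfl⟩ | ⟨i, j, -, t, rfl⟩
  · rw [← map_pow, tGL_sq, map_one]
  · rw [pow_two]; exact isoElt_ext (pres_upper _ (alt_sym2 i j t)).1

/-- A generated 2-subgroup of `Ω` inside an isometry group in which `Ω` has index two. -/
theorem sqGood_omega {ι : Type} [Fintype ι] [DecidableEq ι] [Finite F] (Q : (ι → F) → F)
    (S : Set (Cfsg.isometryGroup F Q)) (hS : S ⊆ (Cfsg.Omega F Q : Set _))
    (hidx : (Cfsg.Omega F Q).index = 2) (b : ι → ℕ)
    (huni : ∀ g ∈ S, IsBlockUni b (g.1 : Matrix ι ι F)) (k o : ℕ) (ho : Odd o)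
    (hcard : Nat.card (Cfsg.isometryGroup F Q) = 2 * 2 ^ k * o)
    (hle : 2 ^ k ≤ Nat.card (Subgroup.closure S)) (hsq : ∀ s ∈ S, s ^ 2 = 1) :
    SqGood ↥(Cfsg.Omega F Q) := by
  set T : Set ↥(Cfsg.Omega F Q) := {g | g.1 ∈ S}
  have hT : (Subgroup.closure T).map (Cfsg.Omega F Q).subtype = Subgroup.closure S := by
    rw [MonoidHom.map_closure]
    congr 1
    exact Set.Subset.antisymm (by rintro _ ⟨g, hg, rfl⟩; exact hg) fun g hg => ⟨⟨g, hS hg⟩, hg, rfl⟩
  refine sqGood_of_card T ?_ k o ho ?_ ?_ ?_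
  · exact isPGroup_closure (((Units.coeHom (Matrix ι ι F)).comp (Cfsg.isometryGroup F Q).subtype).comp
      (Cfsg.Omega F Q).subtype) (fun x y h => Subtype.ext (Subtype.ext (Units.ext h))) b T
      fun g hg => huni _ hg
  · have := (Cfsg.Omega F Q).card_mul_index
    rw [hidx, hcard] at this
    exact dvd_of_eq (by linarith)
  · rw [← hT, Subgroup.card_map_of_injective (Cfsg.Omega F Q).subtype_injective] at hle
    exact hle
  · intro s hs
    have : s ^ 2 = 1 := Subtype.ext (hsq _ hs)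
    rw [this]; exact one_mem _

theorem odd_pow_pred {f : ℕ} (hf : 0 < f) : Odd (2 ^ f - 1) :=
  Nat.Even.sub_odd Nat.one_le_two_pow ((Nat.even_pow' hf.ne').2 even_two) odd_one

theorem card_upper (m : ℕ) : Nat.card {p : Fin m × Fin m // p.1 < p.2} = m * (m - 1) / 2 := by
  rw [← upperCount_eq, PSLAut.upperCount, Nat.card_eq_fintype_card,
    Fintype.card_congr (β := Σ j : Fin m, Fin (j : ℕ))
      { toFun := fun p => ⟨p.1.2, ⟨p.1.1.val, p.2⟩⟩
        invFun := fun s => ⟨(⟨s.2.val, lt_trans s.2.isLt s.1.isLt⟩, s.1), s.2.isLt⟩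
        left_inv := fun p => rfl
        right_inv := fun s => rfl }, Fintype.card_sigma]
  simp only [Fintype.card_fin]

theorem card_plusParam [Fintype F] (m : ℕ) :
    Nat.card (↥(unitriGL m F) × ({p : Fin m × Fin m // p.1 < p.2} → F)) = Fintype.card F ^ (m * (m - 1)) := by
  rw [Nat.card_prod, PSLAut.card_unitriGL, upperCount_eq, Nat.card_fun, card_upper,
    Nat.card_eq_fintype_card, ← pow_add]
  congr 1
  have := (Nat.even_mul_pred_self m).two_dvd
  omega

theorem sqGood_OmegaPlus [Fintype F] (k : ℕ) :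
    SqGood ↥(Cfsg.Omega F (Cfsg.quadFormPlus (k + 3) F)) := by
  obtain ⟨f, -, hf⟩ := FiniteField.card F 2
  have hidx : (Cfsg.Omega F (Cfsg.quadFormPlus (k + 3) F)).index = 2 := by
    have h := (Classical.plusModel (F := F) k).nondegenerate
      (Classical.isotropicNondeg_hypTower Classical.nondeg_zero_fin k)
    have := Forms.index_Omega_char_two h (Or.inr (by simp; omega)) (by simp)
    rwa [Classical.coe_plusForm] at this
  refine sqGood_omega _ (genPlus (k + 3) F) (genPlus_subset_omega (by omega)) hidx (bPlus _)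
    (fun g hg => isBlockUni_genPlus hg) ((f : ℕ) * ((k + 3) * (k + 2)))
    ((Fintype.card F ^ (k + 3) - 1) * ∏ i ∈ Finset.range (k + 2), (Fintype.card F ^ (2 * (i + 1)) - 1))
    ?_ ?_ ?_ (fun s hs => sq_genPlus hs)
  · rw [hf]
    refine Odd.mul ?_ (Finset.prod_induction _ Odd (fun a b => Odd.mul) odd_one fun i _ => ?_) <;>
      (rw [← pow_mul]; exact odd_pow_pred (by have := f.pos; positivity))
  · rw [S0287.result rfl (k + 3) (by omega), show k + 3 - 1 = k + 2 from rfl,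
      show Fintype.card F ^ ((k + 3) * (k + 2)) = 2 ^ ((f : ℕ) * ((k + 3) * (k + 2))) by rw [hf, ← pow_mul]]
    ring
  · refine le_trans (le_of_eq ?_) (Nat.card_le_card_of_injective
      (fun p => (⟨plusElt p, mul_mem (levHom_mem_closure p.1.2) (upElt_mem_closure p.2)⟩ :
        ↥(Subgroup.closure (genPlus (k + 3) F))))
      fun x y h => plusElt_injective (congrArg Subtype.val h))
    rw [card_plusParam, hf, ← pow_mul]
    rfl

end Cfsg.Agent.Lib.SylowTwoSq
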