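import Mathlib
import Cfsg.Agent.Lib.SylowTwoSq.Orthogonal

/-!
Squares in the Sylow 2-subgroups of the orthogonal groups of minus type in characteristic two.
-/

set_option autoImplicit false

namespace Cfsg.Agent.Lib.SylowTwoSq

open Matrix
open scoped commutatorElement
open PSLAut (IsUnitri unitriGL)
open RankThreeTwo (sym2 upElt alt_sym2 isoElt)

variable {F : Type*} [Field F] [CharP F 2] {m : ℕ}

local notation "ι" => ((Fin m ⊕ Fin m) ⊕ Fin 2)

/-- coordinate vector of a first hyperbolic coordinate -/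
def xv (i : Fin m) : ι → F := Pi.single (.inl (.inl i)) 1

/-- coordinate vector of a second hyperbolic coordinate -/
def yv (i : Fin m) : ι → F := Pi.single (.inl (.inr i)) 1

/-- a vector in the anisotropic part -/
def zv (w : Fin 2 → F) : ι → F := Sum.elim 0 w

/-- the anisotropic binary form -/
def qTwo (a b : F) (w : Fin 2 → F) : F := w 0 ^ 2 + a * w 0 * w 1 + b * w 1 ^ 2

/-- its polar form -/
def pTwo (a : F) (w : Fin 2 → F) : Fin 2 → F := ![a * w 1, a * w 0]

omit [CharP F 2] in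
theorem dot_yx (i j : Fin m) : (yv i : ι → F) ⬝ᵥ xv j = 0 := by simp [yv, xv]

omit [CharP F 2] in
theorem dot_xy (i j : Fin m) : (xv i : ι → F) ⬝ᵥ yv j = 0 := by simp [yv, xv]

omit [CharP F 2] in
theorem dot_yz (i : Fin m) (w : Fin 2 → F) : (yv i : ι → F) ⬝ᵥ zv w = 0 := by simp [yv, zv]

omit [CharP F 2] in
theorem dot_xz (i : Fin m) (w : Fin 2 → F) : (xv i : ι → F) ⬝ᵥ zv w = 0 := by simp [xv, zv]

omit [CharP F 2] in
theorem dot_zy (i : Fin m) (w : Fin 2 → F) : (zv w : ι → F) ⬝ᵥ yv i = 0 := by simp [yv, zv]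

omit [CharP F 2] in
theorem dot_zx (i : Fin m) (w : Fin 2 → F) : (zv w : ι → F) ⬝ᵥ xv i = 0 := by simp [xv, zv]

omit [CharP F 2] in
theorem dot_zz (v w : Fin 2 → F) : (zv v : ι → F) ⬝ᵥ zv w = v ⬝ᵥ w := by
  simp [zv, dotProduct, Fintype.sum_sum_type]

omit [CharP F 2] in
theorem dot_yy (i j : Fin m) : (yv i : ι → F) ⬝ᵥ yv j = if i = j then 1 else 0 := by
  simp [yv, Pi.single_apply, eq_comm]

omit [CharP F 2] in
theorem dot_xx (i j : Fin m) : (xv i : ι → F) ⬝ᵥ xv j = if i = j then 1 else 0 := by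
  simp [xv, Pi.single_apply, eq_comm]

/-- the nilpotent part of a Siegel element -/
def nSg (a b : F) (i : Fin m) (w : Fin 2 → F) : Matrix ι ι F :=
  vecMulVec (xv i) (qTwo a b w • yv i + zv (pTwo a w)) + vecMulVec (zv w) (yv i)

omit [CharP F 2] in
theorem nSg_mul (a b : F) (i j : Fin m) (v w : Fin 2 → F) :
    nSg a b i v * nSg a b j w = (pTwo a v ⬝ᵥ w) • vecMulVec (xv i) (yv j) := by
  simp [nSg, add_mul, mul_add, vecMulVec_mul_vecMulVec, add_dotProduct, dot_yx, dot_yz, dot_zx, dot_zz]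

theorem pTwo_self (a : F) (w : Fin 2 → F) : pTwo a w ⬝ᵥ w = 0 := by
  simp [pTwo, dotProduct, Fin.sum_univ_two, mul_right_comm a (w 1) (w 0), CharTwo.add_self_eq_zero]

theorem oneAdd_nSg_sq (a b : F) (i : Fin m) (w : Fin 2 → F) :
    (1 + nSg a b i w) * (1 + nSg a b i w) = 1 := by
  rw [add_mul, mul_add, mul_add, nSg_mul, pTwo_self, zero_smul, one_mul, mul_one, one_mul, add_zero,
    add_assoc, RankThreeTwo.add_self_matrix, add_zero]

theorem nSg_mulVec (a b : F) (i : Fin m) (w : Fin 2 → F) (u : ι → F) :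
    (1 + nSg a b i w) *ᵥ u =
      u + ((qTwo a b w * u (.inl (.inr i)) + pTwo a w ⬝ᵥ (u ∘ Sum.inr)) • xv i + u (.inl (.inr i)) • zv w) := by
  have h1 : (yv i : ι → F) ⬝ᵥ u = u (.inl (.inr i)) := by simp [yv]
  have h2 : (zv (pTwo a w) : ι → F) ⬝ᵥ u = pTwo a w ⬝ᵥ (u ∘ Sum.inr) := by
    simp [zv, dotProduct, Fintype.sum_sum_type]
  rw [Matrix.add_mulVec, Matrix.one_mulVec, nSg, Matrix.add_mulVec, Matrix.vecMulVec_mulVec,
    Matrix.vecMulVec_mulVec, add_dotProduct, smul_dotProduct, h1, h2, op_smul_eq_smul, op_smul_eq_smul, smul_eq_mul]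

theorem pres_nSg (a b : F) (i : Fin m) (w : Fin 2 → F) (u : ι → F) :
    Cfsg.quadFormMinus m F a b ((1 + nSg a b i w) *ᵥ u) = Cfsg.quadFormMinus m F a b u := by
  set s := qTwo a b w * u (.inl (.inr i)) + pTwo a w ⬝ᵥ (u ∘ Sum.inr) with hs
  rw [nSg_mulVec, ← hs]
  have hx : ∀ j, (u + (s • xv i + u (.inl (.inr i)) • zv w) : ι → F) (.inl (.inl j)) *
      (u + (s • xv i + u (.inl (.inr i)) • zv w) : ι → F) (.inl (.inr j)) =
      u (.inl (.inl j)) * u (.inl (.inr j)) + if j = i then s * u (.inl (.inr i)) else 0 := fun j => by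
    by_cases h : j = i
    · subst h; simp [xv, zv]; ring
    · simp [xv, zv, h]
  simp only [Cfsg.quadFormMinus, hx, Finset.sum_add_distrib, Finset.sum_ite_eq', Finset.mem_univ, if_true]
  simp [xv, zv, hs, qTwo, pTwo, dotProduct, Fin.sum_univ_two]
  ring_nf
  simp [CharTwo.two_eq_zero]

/-- the Siegel element -/
def eSg (a b : F) (i : Fin m) (w : Fin 2 → F) :
    Cfsg.isometryGroup F (Cfsg.quadFormMinus m F a b) :=
  ⟨⟨1 + nSg a b i w, 1 + nSg a b i w, oneAdd_nSg_sq a b i w, oneAdd_nSg_sq a b i w⟩,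
    fun u _ => pres_nSg a b i w u⟩

theorem coe_eSg (a b : F) (i : Fin m) (w : Fin 2 → F) :
    ((eSg a b i w).1 : Matrix ι ι F) = 1 + nSg a b i w := rfl

theorem eSg_sq (a b : F) (i : Fin m) (w : Fin 2 → F) : eSg a b i w ^ 2 = 1 :=
  Subtype.ext (Units.ext (by rw [pow_two]; exact oneAdd_nSg_sq a b i w))

/-- block embedding of the plus isometries -/
def embMinus (m : ℕ) (a b : F) :
    Cfsg.isometryGroup F (Cfsg.quadFormPlus m F) →* Cfsg.isometryGroup F (Cfsg.quadFormMinus m F a b) where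
  toFun g := ⟨⟨Matrix.fromBlocks (g.1 : Matrix _ _ F) 0 0 1, Matrix.fromBlocks ((g.1⁻¹ : GL _ F) : Matrix _ _ F) 0 0 1,
    by rw [Matrix.fromBlocks_multiply]; simp, by rw [Matrix.fromBlocks_multiply]; simp⟩, fun u _ => by
      have h := g.2 (u ∘ Sum.inl) (u ∘ Sum.inl)
      show Cfsg.quadFormMinus m F a b
        (Matrix.fromBlocks (g.1 : Matrix _ _ F) 0 0 1 *ᵥ u) = Cfsg.quadFormMinus m F a b u
      rw [Matrix.fromBlocks_mulVec]
      simp only [Matrix.zero_mulVec, add_zero, zero_add, Matrix.one_mulVec, Cfsg.quadFormMinus,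
        Sum.elim_inl, Sum.elim_inr, Function.comp_apply]
      exact congrArg (· + _) h⟩
  map_one' := Subtype.ext (Units.ext (by simp))
  map_mul' g h := Subtype.ext (Units.ext (by
    show Matrix.fromBlocks _ 0 0 1 = Matrix.fromBlocks _ 0 0 1 * Matrix.fromBlocks _ 0 0 1
    rw [Matrix.fromBlocks_multiply]
    simp))

theorem coe_embMinus (a b : F) (g : Cfsg.isometryGroup F (Cfsg.quadFormPlus m F)) :
    ((embMinus m a b g).1 : Matrix ι ι F) = Matrix.fromBlocks (g.1 : Matrix _ _ F) 0 0 1 := rfl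

theorem eSg_mem_omega (hm : 3 ≤ m) (a b : F) (i : Fin m) (w : Fin 2 → F) :
    eSg a b i w ∈ Cfsg.Omega F (Cfsg.quadFormMinus m F a b) := by
  obtain ⟨k, hik, -⟩ := exists_third hm i i
  obtain ⟨k', h1, h2⟩ := exists_third hm i k
  let T : GL (Fin m) F := Matrix.SpecialLinearGroup.toGL (Matrix.SpecialLinearGroup.transvection hik (1 : F))
  set L := embMinus m a b (levHom m F T)
  set U := embMinus m a b (upElt (qTwo a b w • sym2 i k) (alt_sym2 i k _))
  have hU : U ∈ Cfsg.Omega F (Cfsg.quadFormMinus m F a b) := by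
    have h := Subgroup.mem_map_of_mem (embMinus m a b) (RankThreeTwo.upElt_mem hik h1 h2 (qTwo a b w))
    rw [map_commutator_eq] at h
    exact Subgroup.commutator_mono le_top le_top h
  have hTT : T * T = 1 := Units.ext (by
    show (Matrix.SpecialLinearGroup.transvection hik (1 : F)).1 *
      (Matrix.SpecialLinearGroup.transvection hik (1 : F)).1 = 1
    rw [Matrix.SpecialLinearGroup.transvection_coe]
    show Matrix.transvection i k 1 * Matrix.transvection i k 1 = 1
    rw [Matrix.transvection_mul_transvection_same _ _ hik, CharTwo.add_self_eq_zero, Matrix.transvection_zero])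
  have hL : L⁻¹ = L := inv_eq_of_mul_eq_one_right (by rw [← map_mul, ← map_mul, hTT, map_one, map_one])
  have hE : (eSg a b k w)⁻¹ = eSg a b k w := inv_eq_of_mul_eq_one_right (by rw [← pow_two, eSg_sq])
  have hT : (T : Matrix (Fin m) (Fin m) F) = 1 + Matrix.single i k 1 := by
    show (Matrix.SpecialLinearGroup.transvection hik (1 : F)).1 = _
    rw [Matrix.SpecialLinearGroup.transvection_coe]
  have hTi : ((T⁻¹ : GL (Fin m) F) : Matrix (Fin m) (Fin m) F) = 1 + Matrix.single i k 1 := by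
    rw [inv_eq_of_mul_eq_one_right hTT, hT]
  have hLm : (L.1 : Matrix ι ι F) = 1 + (vecMulVec (xv i) (xv k) + vecMulVec (yv k) (yv i)) := by
    rw [coe_embMinus]
    show Matrix.fromBlocks (Matrix.fromBlocks _ 0 0 _) 0 0 1 = _
    rw [hT, hTi, Matrix.transpose_add, Matrix.transpose_one, Matrix.transpose_single]
    ext ((p | p) | p) ((r | r) | r) <;>
      simp [vecMulVec_apply, xv, yv, Matrix.one_apply, Matrix.single_apply, Pi.single_apply, ite_and, eq_comm] <;>
      split_ifs <;> simp_all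
  have hUm : (U.1 : Matrix ι ι F) =
      1 + qTwo a b w • (vecMulVec (xv i) (yv k) + vecMulVec (xv k) (yv i)) := by
    rw [coe_embMinus]
    show Matrix.fromBlocks (Matrix.fromBlocks 1 _ 0 1) 0 0 1 = _
    ext ((p | p) | p) ((r | r) | r) <;>
      simp [sym2, vecMulVec_apply, xv, yv, Matrix.one_apply, Matrix.single_apply, Pi.single_apply, ite_and, eq_comm] <;>
      split_ifs <;> simp_all
  have key : ⁅L, eSg a b k w⁆ = eSg a b i w * U := by
    rw [commutatorElement_def, hL, hE]
    refine Subtype.ext (Units.ext ?_)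
    show (L.1 : Matrix ι ι F) * (1 + nSg a b k w) * L.1 * (1 + nSg a b k w) = (1 + nSg a b i w) * U.1
    rw [hLm, hUm]
    simp only [nSg, add_mul, mul_add, one_mul, mul_one, Matrix.mul_smul, Matrix.smul_mul,
      vecMulVec_mul_vecMulVec, add_dotProduct, dotProduct_add, smul_dotProduct, dotProduct_smul, dot_yx, dot_xy,
      dot_yz, dot_zx, dot_xz, dot_zy, dot_zz, dot_yy, dot_xx, if_neg hik, if_neg hik.symm, if_true, pTwo_self,
      zero_smul, smul_zero, zero_add, add_zero, one_smul, smul_eq_mul, mul_zero, vecMulVec_zero]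
    ext p r
    simp only [Matrix.add_apply, Matrix.smul_apply, vecMulVec_apply, Pi.add_apply, Pi.smul_apply, smul_eq_mul]
    ring_nf
    have h3 : (3 : F) = 1 := by
      rw [show (3 : F) = 2 + 1 by norm_num, CharTwo.two_eq_zero, zero_add]
    simp [h3, (CharTwo.two_eq_zero : (2 : F) = 0)]
  have hc : ⁅L, eSg a b k w⁆ ∈ Cfsg.Omega F (Cfsg.quadFormMinus m F a b) :=
    Subgroup.commutator_mem_commutator (Subgroup.mem_top _) (Subgroup.mem_top _)
  rw [key] at hc
  exact (Subgroup.mul_mem_cancel_right _ hU).1 hc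

/-- generators of a Sylow subgroup of `Ω⁻` -/
def genMinus (m : ℕ) (a b : F) : Set (Cfsg.isometryGroup F (Cfsg.quadFormMinus m F a b)) :=
  embMinus m a b '' genPlus m F ∪ Set.range fun p : Fin m × (Fin 2 → F) => eSg a b p.1 p.2

/-- the product of the Siegel elements -/
def sgProd (a b : F) (W : Fin m → Fin 2 → F) :
    Cfsg.isometryGroup F (Cfsg.quadFormMinus m F a b) :=
  ((List.finRange m).map fun i => eSg a b i (W i)).prod

theorem vecMul_sgList (a b : F) (W : Fin m → Fin 2 → F) (l : Fin 2) : ∀ L : List (Fin m),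
    Pi.single (.inr l) 1 ᵥ* ((L.map fun i => eSg a b i (W i)).prod.1 : Matrix ι ι F) =
      Pi.single (.inr l) 1 + (L.map fun i => W i l • yv i).sum ∧
    ∀ j, yv j ᵥ* ((L.map fun i => eSg a b i (W i)).prod.1 : Matrix ι ι F) = yv j
  | [] => by simp
  | i :: L => by
    obtain ⟨h1, h2⟩ := vecMul_sgList a b W l L
    have hy : ∀ j, yv j ᵥ* (1 + nSg a b i (W i)) = yv j := fun j => by
      simp [nSg, Matrix.vecMul_add, Matrix.vecMul_vecMulVec, dot_yx, dot_yz]
    have hz : (Pi.single (.inr l) 1 : ι → F) ᵥ* (1 + nSg a b i (W i)) = Pi.single (.inr l) 1 + W i l • yv i := by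
      simp [nSg, Matrix.vecMul_add, Matrix.vecMul_vecMulVec, xv, zv]
    simp only [List.map_cons, List.prod_cons, List.sum_cons, Subgroup.coe_mul, Units.val_mul, coe_eSg]
    refine ⟨?_, fun j => by rw [← Matrix.vecMul_vecMul, hy, h2]⟩
    rw [← Matrix.vecMul_vecMul, hz, Matrix.add_vecMul, h1, Matrix.smul_vecMul, h2]
    abel

theorem sgProd_apply (a b : F) (W : Fin m → Fin 2 → F) (l : Fin 2) (i : Fin m) :
    ((sgProd a b W).1 : Matrix ι ι F) (.inr l) (.inl (.inr i)) = W i l := by
  have h := congrFun (vecMul_sgList a b W l (List.finRange m)).1 (.inl (.inr i))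
  rw [Matrix.single_one_vecMul] at h
  refine h.trans ?_
  rw [← List.ofFn_eq_map, List.sum_ofFn]
  simp [yv, Finset.sum_apply, Pi.single_apply]

/-- the elements `plus part * Siegel part` -/
def minusElt [Fintype F] (a b : F)
    (p : (↥(unitriGL m F) × ({p : Fin m × Fin m // p.1 < p.2} → F)) × (Fin m → Fin 2 → F)) :
    Cfsg.isometryGroup F (Cfsg.quadFormMinus m F a b) := embMinus m a b (plusElt p.1) * sgProd a b p.2

theorem minusElt_injective [Fintype F] (a b : F) : Function.Injective (minusElt (m := m) a b) := by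
  rintro ⟨g, W⟩ ⟨g', W'⟩ h
  have hW : W = W' := by
    funext i l
    have h1 := congrArg (fun x : Cfsg.isometryGroup F (Cfsg.quadFormMinus m F a b) =>
      (x.1 : Matrix ι ι F) (.inr l) (.inl (.inr i))) h
    simpa [minusElt, coe_embMinus, Matrix.mul_apply, Fintype.sum_sum_type, Matrix.one_apply, sgProd_apply] using h1
  subst hW
  have h2 : embMinus m a b (plusElt g) = embMinus m a b (plusElt g') := mul_right_cancel h
  refine Prod.ext (plusElt_injective (RankThreeTwo.isoElt_ext ?_)) rfl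
  exact (Matrix.fromBlocks_inj.1 (congrArg
    (fun x : Cfsg.isometryGroup F (Cfsg.quadFormMinus m F a b) => (x.1 : Matrix ι ι F)) h2)).1

theorem isBlockUni_genMinus [Fintype F] (a b : F) {g : Cfsg.isometryGroup F (Cfsg.quadFormMinus m F a b)}
    (hg : g ∈ genMinus m a b) : IsBlockUni (bMinus m) (g.1 : Matrix ι ι F) := by
  rcases hg with ⟨x, hx, rfl⟩ | ⟨⟨i, w⟩, rfl⟩
  · rw [coe_embMinus]
    rintro (p | p) (r | r) h
    · rw [Matrix.fromBlocks_apply₁₁, isBlockUni_genPlus hx p r h, Matrix.one_apply, Matrix.one_apply]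
      simp
    · simp
    · simp
    · simp [Matrix.one_apply]
  · intro p r h
    rw [coe_eSg, Matrix.add_apply, add_eq_left, nSg]
    rcases p with (p | p) | p <;> rcases r with (r | r) | r <;>
      simp only [bMinus, bPlus, Sum.elim_inl, Sum.elim_inr] at h <;>
      simp [vecMulVec_apply, xv, yv, zv, Pi.single_apply] <;>
      intros <;> subst_vars <;> exfalso <;> omega

theorem sqGood_OmegaMinus [Fintype F] (k : ℕ) (a b : F)
    (hab : ∀ z₁ z₂ : F, z₁ ^ 2 + a * z₁ * z₂ + b * z₂ ^ 2 = 0 → z₁ = 0 ∧ z₂ = 0) :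
    SqGood ↥(Cfsg.Omega F (Cfsg.quadFormMinus (k + 3) F a b)) := by
  obtain ⟨f, -, hf⟩ := FiniteField.card F 2
  have hidx : (Cfsg.Omega F (Cfsg.quadFormMinus (k + 3) F a b)).index = 2 := by
    have h := (Classical.minusModel (F := F) k a b).nondegenerate
      (Classical.isotropicNondeg_hypTower (Classical.nondeg_binQ hab) k)
    have := Forms.index_Omega_char_two h (Or.inr (by simp; omega)) (by simp)
    rwa [Classical.coe_minusForm] at this
  have hS : genMinus (k + 3) a b ⊆ (Cfsg.Omega F (Cfsg.quadFormMinus (k + 3) F a b) : Set _) := by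
    rintro _ (⟨x, hx, rfl⟩ | ⟨⟨i, w⟩, rfl⟩)
    · have h := Subgroup.mem_map_of_mem (embMinus (k + 3) a b) (genPlus_subset_omega (by omega) hx)
      rw [map_commutator_eq] at h
      exact Subgroup.commutator_mono le_top le_top h
    · exact eSg_mem_omega (by omega) a b i w
  refine sqGood_omega _ (genMinus (k + 3) a b) hS hidx (bMinus _) (fun g hg => isBlockUni_genMinus a b hg)
    ((f : ℕ) * ((k + 4) * (k + 3)))
    ((Fintype.card F ^ (k + 4) + 1) * ∏ i ∈ Finset.range (k + 3), (Fintype.card F ^ (2 * (i + 1)) - 1))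
    ?_ ?_ ?_ ?_
  · rw [hf]
    refine Odd.mul ?_ (Finset.prod_induction _ Odd (fun a b => Odd.mul) odd_one fun i _ => ?_)
    · rw [← pow_mul]
      exact Even.add_one ((Nat.even_pow' (by have := f.pos; positivity)).2 even_two)
    · rw [← pow_mul]; exact odd_pow_pred (by have := f.pos; positivity)
  · have h := S0288.result (q := Fintype.card F) rfl (k + 4) (by omega) a b hab
    rw [show k + 4 - 1 = k + 3 from rfl] at h
    rw [h, show Fintype.card F ^ ((k + 4) * (k + 3)) = 2 ^ ((f : ℕ) * ((k + 4) * (k + 3))) by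
      rw [hf, ← pow_mul]]
    ring
  · refine le_trans (le_of_eq ?_) (Nat.card_le_card_of_injective
      (fun p => (⟨minusElt a b p, ?_⟩ : ↥(Subgroup.closure (genMinus (k + 3) a b))))
      fun x y h => minusElt_injective a b (congrArg Subtype.val h))
    · rw [Nat.card_prod, card_plusParam, Nat.card_fun, Nat.card_fun, Nat.card_eq_fintype_card (α := F),
        Nat.card_fin, Nat.card_fin, ← pow_mul, ← pow_add, hf, ← pow_mul]
      congr 2
      simp only [show k + 3 - 1 = k + 2 from rfl]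
      ring
    · refine mul_mem ?_ ?_
      · have h := Subgroup.mem_map_of_mem (embMinus (k + 3) a b)
          (mul_mem (levHom_mem_closure p.1.1.2) (upElt_mem_closure p.1.2))
        rw [MonoidHom.map_closure] at h
        exact Subgroup.closure_mono Set.subset_union_left h
      · refine list_prod_mem fun x hx => ?_
        obtain ⟨i, -, rfl⟩ := List.mem_map.1 hx
        exact Subgroup.subset_closure (Or.inr ⟨(i, _), rfl⟩)
  · rintro _ (⟨x, hx, rfl⟩ | ⟨⟨i, w⟩, rfl⟩)
    · rw [← map_pow, sq_genPlus hx, map_one]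
    · exact eSg_sq a b i w

end Cfsg.Agent.Lib.SylowTwoSq
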