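import Cfsg.Agent.Lib.SylowTwoSq.Basic

/-!
The criterion for squares inside an ambient group.
-/

set_option autoImplicit false

namespace Cfsg.Agent.Lib.SylowTwoSq

variable {A : Type*} [Group A] {G : Subgroup A} [Finite G]

/-- A Sylow subgroup given as a subgroup of the ambient group. -/
theorem sqGood_of_sylow (P : Sylow 2 G) (K : Subgroup A) (hK : K ≤ G)
    (hP : (P : Subgroup G) = K.subgroupOf G) (hsq : ∀ x ∈ K, x ^ 2 ∈ ⁅K, K⁆) : SqGood G := by
  haveI : Fact (Nat.Prime 2) := ⟨Nat.prime_two⟩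
  refine sqGood_of_gen ((P : Subgroup G) : Set G) (by rw [Subgroup.closure_eq]; exact P.2)
    (by rw [Subgroup.closure_eq]; exact P.not_dvd_index) fun s hs => ?_
  rw [Subgroup.closure_eq]
  have hs' : (s : A) ∈ K := Subgroup.mem_subgroupOf.1 (hP ▸ hs)
  have h := hsq _ hs'
  have e : (P : Subgroup G).map G.subtype = K := by
    rw [hP, Subgroup.map_subgroupOf_eq_of_le hK]
  rw [← e, ← Subgroup.map_commutator, ← Subgroup.coe_pow] at h
  exact (Subgroup.mem_map_iff_mem G.subtype_injective).1 h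

theorem sq_mem_of_le {S : Set A} {K : Subgroup A} (hK : K = Subgroup.closure S)
    (hsq : ∀ s ∈ S, s ^ 2 ∈ ⁅K, K⁆) {x : A} (hx : x ∈ K) : x ^ 2 ∈ ⁅K, K⁆ := by
  subst hK
  exact sq_mem_of_closure hsq hx

end Cfsg.Agent.Lib.SylowTwoSq
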