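import Cfsg.Agent.Lib.SylowTwoSq.Basic
import Cfsg.Agent.Lib.Suzuki.Simple
import Cfsg.Agent.Lib.SuzukiSp4.Iso

/-!
Squares in the Sylow 2-subgroups of the Suzuki groups.
-/

set_option autoImplicit false

namespace Cfsg.Agent.Lib.SylowTwoSq

open Suzuki

variable {F : Type*} [Field F] [Fintype F] {m : ℕ}

theorem sqGood_transl (h : Hyp F m) : SqGood (Cfsg.Sz F m) := by
  intro P x
  obtain ⟨e⟩ := transl_sylow_equiv h P
  obtain ⟨y, rfl⟩ := e.surjective x
  obtain ⟨a, b, hy⟩ := y.2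
  have hy2 : y ^ 2 ∈ commutator (transl h) := by
    rw [← commutator_transl h, center_transl h]
    exact ⟨theta m a * a, by rw [Subgroup.coe_pow, hy, transl_sq]⟩
  have := Subgroup.mem_map_of_mem e.toMonoidHom hy2
  rw [commutator_def, Subgroup.map_commutator, ← MonoidHom.range_eq_map,
    MonoidHom.range_eq_top.2 e.surjective] at this
  rw [← map_pow]
  exact this

theorem sqGood_Sz (h : Hyp F m) : SqGood ↥(Cfsg.Lie.Sz F (2 ^ (m + 1))) :=
  (sqGood_transl h).of_equiv (SuzukiSp4.szEquiv h)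

end Cfsg.Agent.Lib.SylowTwoSq
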