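import Cfsg.Agent.Lib.SylowTwoSq.Basic
import Cfsg.Agent.Lib.Fusion.SUMain

/-!
Squares in the Sylow 2-subgroups of the unitary groups of characteristic two, following the inductive
description of these subgroups in split coordinates.
-/

set_option autoImplicit false

namespace Cfsg.Agent.Lib.SylowTwoSq

open Cfsg.Agent.Lib.Classical hiding uT_congr uT_mul uT_zero
open Cfsg.Agent.Lib.Fusion.SUData
open scoped commutatorElement

variable {F : Type*} [Field F] {σ : F →+* F} {V : Type*} [AddCommGroup V] [Module F V] {B : V → V → F}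

theorem mem_commutator_of_map {A A' : Type*} [Group A] [Group A'] (f : A →* A') {K : Subgroup A}
    {L : Subgroup A'} (h : K.map f ≤ L) {x : A} (hx : x ∈ ⁅K, K⁆) : f x ∈ ⁅L, L⁆ := by
  have := Subgroup.mem_map_of_mem f hx
  rw [Subgroup.map_commutator] at this
  exact Subgroup.commutator_mono h h this

/-- squares stay in the derived group when the radical is added -/
theorem sq_mem_uUni [CharP F 2] (h : HermSpace σ B) {U : Subgroup (V ≃ₗ[F] V)}
    (hUB : U ≤ biIsoGroup B) (hU : ∀ x ∈ U, x ^ 2 ∈ ⁅U, U⁆) :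
    ∀ x ∈ uUni h U, x ^ 2 ∈ ⁅uUni h U, uUni h U⁆ := by
  intro x hx
  set S : Set ((F × F × V) ≃ₗ[F] (F × F × V)) :=
    {g | ∃ (w : V) (c : F) (hc : c + σ c + B w w = 0), g = uT h w c hc} ∪
      {g | ∃ k ∈ U, g = uInd k}
  have hS : uUni h U = Subgroup.closure S := by
    refine le_antisymm ?_ ((Subgroup.closure_le _).2 ?_)
    · rintro _ ⟨w, c, hc, k, hk, rfl⟩
      exact mul_mem (Subgroup.subset_closure (Or.inl ⟨w, c, hc, rfl⟩))
        (Subgroup.subset_closure (Or.inr ⟨k, hk.1, rfl⟩))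
    · rintro _ (⟨w, c, hc, rfl⟩ | ⟨k, hk, rfl⟩)
      · exact uT_mem_uUni h U w c hc
      · exact uInd_mem_uUni h hk (hUB hk)
  suffices hgen : ∀ s ∈ S, s ^ 2 ∈ ⁅uUni h U, uUni h U⁆ by
    rw [hS] at hgen hx ⊢
    exact sq_mem_of_closure hgen hx
  rintro _ (⟨w, c, hc, rfl⟩ | ⟨k, hk, rfl⟩)
  · obtain ⟨hsq, esq⟩ := Fusion.SUData.uT_mul h w w c c hc hc
    have hww : w + w = 0 := by rw [← two_smul F w, CharTwo.two_eq_zero, zero_smul]
    have hcc : c + c - B w w = B w w := by
      rw [CharTwo.add_self_eq_zero, zero_sub, CharTwo.neg_eq]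
    have h0 : B w w + σ (B w w) + B (0 : V) 0 = 0 := by
      rw [h.symm, h.zero_left, add_zero, CharTwo.add_self_eq_zero]
    rw [pow_two, esq, uT_congr h hww hcc (hc' := h0)]
    by_cases hd : B w w = 0
    · rw [uT_congr h rfl hd (hc' := by rw [map_zero, h.zero_left]; ring), Fusion.SUData.uT_zero]
      exact one_mem _
    obtain ⟨t, ht⟩ := h.exists_trace (B w w) (h.symm w w)
    obtain ⟨c₀, hc₀⟩ : ∃ c₀, c₀ + σ c₀ + B ((t / B w w) • w) ((t / B w w) • w) = 0 := by
      obtain ⟨c₀, hc₀⟩ := h.exists_trace (B ((t / B w w) • w) ((t / B w w) • w)) (h.symm _ _)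
      exact ⟨c₀, by rw [hc₀, CharTwo.add_self_eq_zero]⟩
    obtain ⟨hcv, ev⟩ := uT_conj_uT h ((t / B w w) • w) w c₀ c hc₀ hc
    set a : V := (t / B w w) • w with ha
    have hβ : B a w - B w a = B w w := by
      rw [ha, h.smul_left, div_mul_cancel₀ _ hd, ← h.symm ((t / B w w) • w) w, h.smul_left,
        div_mul_cancel₀ _ hd, sub_eq_add_neg, CharTwo.neg_eq, ht]
    obtain ⟨hm, em⟩ := Fusion.SUData.uT_mul h 0 w (B w w) c h0 hc
    have e : uT h 0 (B w w) h0 = ⁅uT h a c₀ hc₀, uT h w c hc⁆ := by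
      rw [commutatorElement_def, ev, eq_mul_inv_iff_mul_eq, em]
      refine uT_congr h (zero_add w) ?_
      rw [h.zero_right, sub_zero, add_sub_assoc, hβ, add_comm]
    rw [e]
    exact Subgroup.commutator_mem_commutator (uT_mem_uUni h U _ _ _) (uT_mem_uUni h U _ _ _)
  · have := mem_commutator_of_map uIndHom (L := uUni h U) ?_ (hU k hk)
    · rw [map_pow] at this
      exact this
    rintro _ ⟨y, hy, rfl⟩
    exact uInd_mem_uUni h hy (hUB hy)

section std

variable [Fintype F] [CharP F 2] {q : ℕ}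

theorem exists_sylowSq (hF : Fintype.card F = q ^ 2) (m : ℕ) :
    ∃ U : Subgroup ((Fin m → F) ≃ₗ[F] (Fin m → F)),
      U ≤ uGroup (hermSpace_std hF m) ∧ IsPGroup 2 U ∧ PSaturated 2 U (Cfsg.hermForm m F q) ∧
        ∀ x ∈ U, x ^ 2 ∈ ⁅U, U⁆ := by
  haveI : Fact (Nat.Prime 2) := ⟨Nat.prime_two⟩
  induction m using Nat.twoStepInduction with
  | zero =>
    refine ⟨⊥, bot_le, IsPGroup.of_bot, fun g _ _ _ => Subgroup.mem_bot.2 ?_, fun x hx => ?_⟩
    · exact LinearEquiv.ext fun x => Subsingleton.elim _ _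
    · rw [Subgroup.mem_bot.1 hx, one_pow]; exact one_mem _
  | one =>
    obtain ⟨U, h1, h2, h3, -⟩ := exists_sylowData hF 2 1
    refine ⟨U, h1, h2, h3, fun x hx => ?_⟩
    set c := x (Pi.single 0 1) 0 with hc
    have hx' : ∀ v, x v = c • v := fun v => by
      have hv : v = v 0 • (Pi.single 0 1 : Fin 1 → F) := by funext i; fin_cases i; simp
      conv_lhs => rw [hv, map_smul]
      funext i
      fin_cases i
      show v 0 * x (Pi.single 0 1) 0 = c * v 0
      rw [← hc, mul_comm]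
    have hxn : ∀ (k : ℕ) v, (x ^ k) v = c ^ k • v := fun k => by
      induction k with
      | zero => simp
      | succ k ih => intro v; rw [pow_succ, LinearEquiv.mul_apply, ih, hx', smul_smul, pow_succ]
    obtain ⟨a, ha⟩ := h2 ⟨x, hx⟩
    have hc1 : c = 1 := eq_one_of_pow_prime_pow 2 (a := a) (by
      have h1 := hxn (2 ^ a) (Pi.single 0 1)
      rw [show x ^ 2 ^ a = 1 from congrArg Subtype.val ha] at h1
      simpa using (congrFun h1 0).symm)
    have : x = 1 := LinearEquiv.ext fun v => by rw [hx', hc1, one_smul]; rfl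
    rw [this, one_pow]
    exact one_mem _
  | more n ih _ =>
    obtain ⟨U, hUG, hUp, hUs, hUq⟩ := ih
    obtain ⟨e, he⟩ := exists_split hF n
    refine ⟨(uUni (hermSpace_std hF n) U).map (autConj e).toMonoidHom, ?_,
      (isPGroup_uUni 2 _ hUp).map _,
      pSaturated_map 2 e he (pSaturated_uUni 2 _ (hUG.trans (uGroup_le _)) hUs), ?_⟩
    · rintro _ ⟨g, hg, rfl⟩
      exact autConj_mem_uGroup _ _ e he (uUni_le_uGroup _ hUG hg)
    · rintro _ ⟨g, hg, rfl⟩
      rw [← map_pow]
      exact mem_commutator_of_map _ le_rfl (sq_mem_uUni _ (hUG.trans (uGroup_le _)) hUq g hg)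

theorem sqGood_SU (hF : Fintype.card F = q ^ 2) (m : ℕ) : SqGood (Cfsg.SU m F q) := by
  haveI : Fact (Nat.Prime 2) := ⟨Nat.prime_two⟩
  obtain ⟨U₀, hUG, hUp, hUs, hUq⟩ := exists_sylowSq hF m
  set G := uGroup (hermSpace_std hF m)
  have := finite_equiv (F := F) (V := Fin m → F)
  let U := U₀.subgroupOf G
  have hU : IsPGroup 2 U := hUp.comap_of_injective _ Subtype.val_injective
  have hUi : ¬ 2 ∣ U.index := by
    obtain ⟨P, hP⟩ := hU.exists_le_sylow
    suffices U = (P : Subgroup G) by rw [this]; exact P.not_dvd_index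
    refine le_antisymm hP ?_
    by_contra hne'
    have : Group.IsNilpotent (P : Subgroup G) := P.2.isNilpotent
    have hlt := Group.normalizerCondition_of_isNilpotent (U.subgroupOf (P : Subgroup G))
      (lt_top_iff_ne_top.2 fun ht => hne' (Subgroup.subgroupOf_eq_top.1 ht))
    obtain ⟨x, hxn, hxU⟩ := SetLike.exists_of_lt hlt
    obtain ⟨a, ha⟩ := P.2 x
    refine hxU (hUs _ (uGroup_le _ x.1.2) (fun y hy => ?_) ⟨a, congrArg (fun z => z.1.1) ha⟩)
    exact (Subgroup.mem_normalizer_iff.1 hxn ⟨⟨y, hUG hy⟩, hP hy⟩).1 hy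
  have hgood : SqGood G := by
    refine sqGood_of_gen (U : Set G) (by rw [Subgroup.closure_eq]; exact hU)
      (by rw [Subgroup.closure_eq]; exact hUi) fun s hs => ?_
    rw [Subgroup.closure_eq]
    have h := hUq _ (Subgroup.mem_subgroupOf.1 hs)
    have e : U.map G.subtype = U₀ := Subgroup.map_subgroupOf_eq_of_le hUG
    rw [← e, ← Subgroup.map_commutator, ← Subgroup.coe_pow] at h
    exact (Subgroup.mem_map_iff_mem G.subtype_injective).1 h
  exact hgood.of_equiv (((MulEquiv.subgroupCongr (range_suLinear hF m)).symm).trans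
    (MonoidHom.ofInjective (f := suLinear m F q) (suLinear_injective m)).symm)

end std

end Cfsg.Agent.Lib.SylowTwoSq
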